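import Groth.Agent.Sga2lef.H106.Main
import Groth.Agent.FormalA.LCSmall
import Groth.Agent.FormalA.Stab07

/-!
# Bootstrapping of formal functions on local cohomology: the standing conditions and pro-vanishing

* `proZero_HT`: pro-vanishing of `H^i_T(I^n M)` for `i ≤ s + 1`.
* `six_of_depth`: condition (6) from a depth condition along `V(𝔞)`.
* `four_of_subset`: condition (4) passes to smaller subsets.
-/

set_option autoImplicit false
universe u

open CategoryTheory
open Groth.Agent.LoccohA Groth.Agent.LoccohA.LCTComp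
open Groth.Agent.FormalA.KLim

attribute [local instance] HasDerivedCategory.standard

namespace K366.Boot

variable {A : Type u} [CommRing A]

section HT

variable {M M' M'' : Type u} [AddCommGroup M] [Module A M] [AddCommGroup M'] [Module A M']
  [AddCommGroup M''] [Module A M''] (T : Set (PrimeSpectrum A)) (i : ℕ)

theorem HT_map_comp (f : M →ₗ[A] M') (g : M' →ₗ[A] M'') (h : M →ₗ[A] M'') (hh : g ∘ₗ f = h)
    (x : Dual2.HT T i M) :
    (localCohomology.ofDiagram (Dual2.idealsInDiagram T) i).map (ModuleCat.ofHom h) x =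
      (localCohomology.ofDiagram (Dual2.idealsInDiagram T) i).map (ModuleCat.ofHom g)
        ((localCohomology.ofDiagram (Dual2.idealsInDiagram T) i).map (ModuleCat.ofHom f) x) := by
  subst hh
  rw [ModuleCat.ofHom_comp, Functor.map_comp]
  rfl

theorem HT_map_zero_of (f : M →ₗ[A] M')
    (h : ∀ y : Groth.Agent.Sga2lef.H106.Final.G T i M, Groth.Agent.Sga2lef.H106.Final.Gm T i f y = 0)
    (x : Dual2.HT T i M) :
    (localCohomology.ofDiagram (Dual2.idealsInDiagram T) i).map (ModuleCat.ofHom f) x = 0 := by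
  apply (HTequiv T i M').injective
  rw [map_zero]
  exact (HTequiv_map T i f x).trans (h _)

end HT

section main

variable [IsNoetherianRing A]

/-- pro-vanishing of `H^i_T(I^n M)` for `i ≤ s + 1` -/
theorem proZero_HT (hdc : ∃ ω : Dual.D A, Dual.IsDualizing A ω) (I : Ideal A) (d : ℕ)
    (hcd : LocCoh.CdLE A I d) (M : Type u) [AddCommGroup M] [Module A M] [Module.Finite A M]
    (T : Set (PrimeSpectrum A)) (hTI : T ⊆ PrimeSpectrum.zeroLocus (I : Set A)) (s : ℕ)
    (h4 : ∀ p r q : PrimeSpectrum A, p ≤ r → r ≤ q → ¬ I ≤ p.asIdeal → I ≤ r.asIdeal → r ∉ T → q ∈ T → (s : ℕ∞) ≤ LocCoh.depth (Localization.AtPrime p.asIdeal) (LocalizedModule p.asIdeal.primeCompl M) ∨ ((d + s : ℕ) : WithBot ℕ∞) < (LocCoh.depth (Localization.AtPrime p.asIdeal) (LocalizedModule p.asIdeal.primeCompl M) : WithBot ℕ∞) + Formal2.dimBetween A p.asIdeal q.asIdeal)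
    (h6 : ∀ q : PrimeSpectrum A, q ∈ T → ∀ p' : PrimeSpectrum (AdicCompletion (I.map (algebraMap A (Localization.AtPrime q.asIdeal))) (Localization.AtPrime q.asIdeal)), ¬ (I.map (algebraMap A (AdicCompletion (I.map (algebraMap A (Localization.AtPrime q.asIdeal))) (Localization.AtPrime q.asIdeal)))) ≤ p'.asIdeal → (∀ q' : PrimeSpectrum (AdicCompletion (I.map (algebraMap A (Localization.AtPrime q.asIdeal))) (Localization.AtPrime q.asIdeal)), p' ≤ q' → (I.map (algebraMap A (AdicCompletion (I.map (algebraMap A (Localization.AtPrime q.asIdeal))) (Localization.AtPrime q.asIdeal)))) ≤ q'.asIdeal → q'.asIdeal.IsMaximal) → (s : ℕ∞) < LocCoh.depth (Localization.AtPrime p'.asIdeal) (LocalizedModule p'.asIdeal.primeCompl (AdicCompletion (I.map (algebraMap A (Localization.AtPrime q.asIdeal))) (LocalizedModule q.asIdeal.primeCompl M))))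
    (i : ℕ) (hi : i ≤ s + 1) (n : ℕ) :
    ∃ m : ℕ, n ≤ m ∧ ∀ (k : ℕ) (_ : m ≤ k)
      (hnk : (I ^ k • (⊤ : Submodule A M) : Submodule A M) ≤ (I ^ n • (⊤ : Submodule A M) : Submodule A M))
      (x : Dual2.HT T i ↥(I ^ k • (⊤ : Submodule A M) : Submodule A M)),
      (localCohomology.ofDiagram (Dual2.idealsInDiagram T) i).map
        (ModuleCat.ofHom (Submodule.inclusion hnk)) x = 0 := by
  obtain ⟨m, h, hm⟩ := Groth.Agent.Sga2lef.H106.Main.proZero_T hdc I d hcd M T hTI s h4 h6 i hi n
  have h1 : (fil I M m) ≤ (fil I M n) := fil_antitone I M h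
  have h2 : (fil I M n) ≤ (I ^ n • (⊤ : Submodule A M) : Submodule A M) :=
    Submodule.smul_mono_left (Ideal.pow_le_pow_right (Nat.le_succ n))
  refine ⟨m + 1, by omega, fun k hk hnk x => ?_⟩
  have h3 : (I ^ k • (⊤ : Submodule A M) : Submodule A M) ≤ fil I M m :=
    Submodule.smul_mono_left (Ideal.pow_le_pow_right hk)
  rw [HT_map_comp T i (Submodule.inclusion h3) (Submodule.inclusion (h1.trans h2))
    (Submodule.inclusion hnk) (by ext; rfl),
    HT_map_comp T i (Submodule.inclusion h1) (Submodule.inclusion h2)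
    (Submodule.inclusion (h1.trans h2)) (by ext; rfl),
    HT_map_zero_of T i (Submodule.inclusion h1) hm, map_zero]

/-- condition (4) for a smaller subset -/
theorem four_of_subset (hdc : ∃ ω : Dual.D A, Dual.IsDualizing A ω) (I : Ideal A) (d : ℕ)
    (M : Type u) [AddCommGroup M] [Module A M] [Module.Finite A M]
    (T : Set (PrimeSpectrum A)) (hTI : T ⊆ PrimeSpectrum.zeroLocus (I : Set A)) (s : ℕ)
    (h4 : ∀ p r q : PrimeSpectrum A, p ≤ r → r ≤ q → ¬ I ≤ p.asIdeal → I ≤ r.asIdeal → r ∉ T → q ∈ T → (s : ℕ∞) ≤ LocCoh.depth (Localization.AtPrime p.asIdeal) (LocalizedModule p.asIdeal.primeCompl M) ∨ ((d + s : ℕ) : WithBot ℕ∞) < (LocCoh.depth (Localization.AtPrime p.asIdeal) (LocalizedModule p.asIdeal.primeCompl M) : WithBot ℕ∞) + Formal2.dimBetween A p.asIdeal q.asIdeal)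
    (h6 : ∀ q : PrimeSpectrum A, q ∈ T → ∀ p' : PrimeSpectrum (AdicCompletion (I.map (algebraMap A (Localization.AtPrime q.asIdeal))) (Localization.AtPrime q.asIdeal)), ¬ (I.map (algebraMap A (AdicCompletion (I.map (algebraMap A (Localization.AtPrime q.asIdeal))) (Localization.AtPrime q.asIdeal)))) ≤ p'.asIdeal → (∀ q' : PrimeSpectrum (AdicCompletion (I.map (algebraMap A (Localization.AtPrime q.asIdeal))) (Localization.AtPrime q.asIdeal)), p' ≤ q' → (I.map (algebraMap A (AdicCompletion (I.map (algebraMap A (Localization.AtPrime q.asIdeal))) (Localization.AtPrime q.asIdeal)))) ≤ q'.asIdeal → q'.asIdeal.IsMaximal) → (s : ℕ∞) < LocCoh.depth (Localization.AtPrime p'.asIdeal) (LocalizedModule p'.asIdeal.primeCompl (AdicCompletion (I.map (algebraMap A (Localization.AtPrime q.asIdeal))) (LocalizedModule q.asIdeal.primeCompl M))))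
    (T' : Set (PrimeSpectrum A)) (hT'T : T' ⊆ T) (p r q : PrimeSpectrum A) (hpr : p ≤ r)
    (hrq : r ≤ q) (hp : ¬ I ≤ p.asIdeal) (hr : I ≤ r.asIdeal) (hrT : r ∉ T') (hq : q ∈ T') :
    (s : ℕ∞) ≤ LocCoh.depth (Localization.AtPrime p.asIdeal) (LocalizedModule p.asIdeal.primeCompl M) ∨ ((d + s : ℕ) : WithBot ℕ∞) < (LocCoh.depth (Localization.AtPrime p.asIdeal) (LocalizedModule p.asIdeal.primeCompl M) : WithBot ℕ∞) + Formal2.dimBetween A p.asIdeal q.asIdeal := by
  by_cases hno : ∀ r : PrimeSpectrum A, p ≤ r → r ≤ q → I ≤ r.asIdeal → r ∈ T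
  · exact Or.inl (Groth.Agent.Sga2lef.H106.Depth.depth_gt hdc I M T hTI s h6 p q
      (hpr.trans hrq) hp (hT'T hq) hno).le
  · push Not at hno
    obtain ⟨r', hpr', hrq', hIr', hrT'⟩ := hno
    exact h4 p r' q hpr' hrq' hp hIr' hrT' (hT'T hq)

/-- condition (6) from a depth condition -/
theorem six_of_depth (hdc : ∃ ω : Dual.D A, Dual.IsDualizing A ω) (I : Ideal A)
    (d : ℕ) (hcd : LocCoh.CdLE A I d) (M : Type u) [AddCommGroup M] [Module A M]
    [Module.Finite A M] (s : ℕ) (q : PrimeSpectrum A) (hIq : I ≤ q.asIdeal)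
    (hc : ∀ p : PrimeSpectrum A, p ≤ q → ¬ I ≤ p.asIdeal → (s : ℕ∞) < LocCoh.depth (Localization.AtPrime p.asIdeal) (LocalizedModule p.asIdeal.primeCompl M) ∨ (((d + s : ℕ) : ℕ∞) : WithBot ℕ∞) < ((LocCoh.depth (Localization.AtPrime p.asIdeal) (LocalizedModule p.asIdeal.primeCompl M) : ℕ∞) : WithBot ℕ∞) + Formal2.dimBetween A p.asIdeal q.asIdeal)
    (p' : PrimeSpectrum (AdicCompletion (I.map (algebraMap A (Localization.AtPrime q.asIdeal))) (Localization.AtPrime q.asIdeal)))
    (hp' : ¬ (I.map (algebraMap A (AdicCompletion (I.map (algebraMap A (Localization.AtPrime q.asIdeal))) (Localization.AtPrime q.asIdeal)))) ≤ p'.asIdeal)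
    (hmax : ∀ q' : PrimeSpectrum (AdicCompletion (I.map (algebraMap A (Localization.AtPrime q.asIdeal))) (Localization.AtPrime q.asIdeal)), p' ≤ q' → (I.map (algebraMap A (AdicCompletion (I.map (algebraMap A (Localization.AtPrime q.asIdeal))) (Localization.AtPrime q.asIdeal)))) ≤ q'.asIdeal → q'.asIdeal.IsMaximal) :
    (s : ℕ∞) < LocCoh.depth (Localization.AtPrime p'.asIdeal) (LocalizedModule p'.asIdeal.primeCompl (AdicCompletion (I.map (algebraMap A (Localization.AtPrime q.asIdeal))) (LocalizedModule q.asIdeal.primeCompl M))) := by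
  let R := Localization.AtPrime q.asIdeal
  let IR : Ideal R := I.map (algebraMap A R)
  have hNoeth : IsNoetherianRing R :=
    IsLocalization.isNoetherianRing q.asIdeal.primeCompl _ inferInstance
  have hω' : ∃ ω : Dual.D R, Dual.IsDualizing R ω :=
    Groth.Agent.S0377.HasDual.localization q.asIdeal.primeCompl hdc
  have hIm : IR ≤ IsLocalRing.maximalIdeal R := by
    refine (Ideal.map_mono hIq).trans (le_of_eq ?_)
    exact Localization.AtPrime.map_eq_maximalIdeal
  have hmap : I.map (algebraMap A (AdicCompletion IR R)) =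
      IR.map (algebraMap R (AdicCompletion IR R)) := by
    rw [Ideal.map_map]
    rfl
  have hloc : IsLocalRing (AdicCompletion IR R) :=
    Groth.Agent.Sga2lef.H106.Local.isLocalRing_cp IR hIm
  have hNoeth' : IsNoetherianRing (AdicCompletion IR R) :=
    Groth.Agent.Ega4A.CompleteNoeth.isNoetherianRing_adicCompletion IR
  have hIm' : IR.map (algebraMap R (AdicCompletion IR R)) ≤
      IsLocalRing.maximalIdeal (AdicCompletion IR R) :=
    Groth.Agent.Sga2lef.H106.Local.map_le_of_isMaximal IR hIm _ inferInstance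
  have hd' : LocCoh.CdLE (AdicCompletion IR R) (IR.map (algebraMap R (AdicCompletion IR R))) d :=
    Groth.Agent.Localalg.LCRows.cdLE_map IR d (Groth.Agent.Localalg.LCRows.cdLE_map I d hcd)
  have hcomap : PrimeSpectrum.comap (algebraMap R (AdicCompletion IR R))
      (IsLocalRing.closedPoint (AdicCompletion IR R)) = IsLocalRing.closedPoint R := by
    apply PrimeSpectrum.ext
    change (IsLocalRing.maximalIdeal (AdicCompletion IR R)).comap _ = IsLocalRing.maximalIdeal R
    refine le_antisymm (IsLocalRing.le_maximalIdeal ?_) (Ideal.map_le_iff_le_comap.1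
      (Groth.Agent.Sga2lef.H106.Local.map_maximalIdeal IR hIm).le)
    exact (Ideal.IsPrime.comap (algebraMap R (AdicCompletion IR R))).ne_top
  have hTT : Groth.Agent.FormalA.Stab07.TT (AdicCompletion IR R)
      (IR.map (algebraMap R (AdicCompletion IR R))) p'.asIdeal := by
    intro r hr hpr hIr
    have h1 := hmax ⟨r, hr⟩ hpr (by rw [hmap]; exact hIr)
    exact IsLocalRing.eq_maximalIdeal h1
  have hdim := Groth.Agent.FormalA.Stab07.ringKrullDim_quotient_le
    (ne_top_of_le_ne_top (IsLocalRing.maximalIdeal.isMaximal _).ne_top hIm') hd' p'.asIdeal hTT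
  obtain ⟨h1, h2⟩ := Groth.Agent.S1714.result R hω' IR (LocalizedModule q.asIdeal.primeCompl M) p'
    (IsLocalRing.closedPoint (AdicCompletion IR R))
    (IsLocalRing.le_maximalIdeal p'.isPrime.ne_top) hIm'
  rw [hcomap, Groth.Agent.FormalA.LCSmall.krullDim_Icc_closedPoint] at h2
  set P : PrimeSpectrum R := PrimeSpectrum.comap (algebraMap R (AdicCompletion IR R)) p' with hP
  have hIP : ¬ IR ≤ P.asIdeal := by
    intro h
    apply hp'
    rw [hmap]
    exact Ideal.map_le_iff_le_comap.2 h
  have h2' : ((LocCoh.depth (Localization.AtPrime p'.asIdeal)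
        (LocalizedModule p'.asIdeal.primeCompl
          (AdicCompletion IR (LocalizedModule q.asIdeal.primeCompl M))) : ℕ∞) : WithBot ℕ∞) +
      ringKrullDim (AdicCompletion IR R ⧸ p'.asIdeal) =
      ((LocCoh.depth (Localization.AtPrime P.asIdeal)
          (LocalizedModule P.asIdeal.primeCompl (LocalizedModule q.asIdeal.primeCompl M)) :
            ℕ∞) : WithBot ℕ∞) +
          Order.krullDim (Set.Icc P (IsLocalRing.closedPoint R)) := h2
  have h1' : LocCoh.depth (Localization.AtPrime P.asIdeal)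
          (LocalizedModule P.asIdeal.primeCompl (LocalizedModule q.asIdeal.primeCompl M)) ≤
        LocCoh.depth (Localization.AtPrime p'.asIdeal)
        (LocalizedModule p'.asIdeal.primeCompl
          (AdicCompletion IR (LocalizedModule q.asIdeal.primeCompl M))) := h1
  rw [Groth.Agent.Sga2lef.H106.AtPrime.depth_comap,
    Groth.Agent.Sga2lef.H106.AtPrime.krullDim_Icc_comap] at h2'
  rw [Groth.Agent.Sga2lef.H106.AtPrime.depth_comap] at h1'
  have hPq := Groth.Agent.Sga2lef.H106.AtPrime.comap_le q P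
  rcases hc _ hPq (fun h => hIP (Ideal.map_le_iff_le_comap.2 h)) with h3 | h3
  · exact h3.trans_le h1'
  · have h4 : (((d + s : ℕ) : ℕ∞) : WithBot ℕ∞) <
      ((LocCoh.depth (Localization.AtPrime p'.asIdeal)
        (LocalizedModule p'.asIdeal.primeCompl
          (AdicCompletion IR (LocalizedModule q.asIdeal.primeCompl M))) : ℕ∞) : WithBot ℕ∞) +
        (((d : ℕ) : ℕ∞) : WithBot ℕ∞) := by
      refine lt_of_lt_of_le ?_ (add_le_add le_rfl hdim)
      rw [h2']
      refine h3.trans_le ?_
      gcongr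
      exact Groth.Agent.FormalA.AnnDom.dimBetween_le _ q
    rw [← WithBot.coe_add, WithBot.coe_lt_coe] at h4
    by_contra hcon
    rw [not_lt] at hcon
    have h5 : ((d + s : ℕ) : ℕ∞) < ((s : ℕ) : ℕ∞) + ((d : ℕ) : ℕ∞) :=
      h4.trans_le (add_le_add hcon le_rfl)
    rw [← Nat.cast_add, Nat.cast_lt] at h5
    omega

end main

end K366.Boot
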