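import Groth.Agent.Dual2.K366.FibCrit
import Groth.Agent.DRing.K227.PerfFlat

/-!
# Exactness of the fibre of a complex and flatness of cokernels

`R → A` of finite type, `E` a complex of finite `A`-modules which are flat over `R`.
* `flatAt_cok` : if `E ⊗_R κ(p)` is exact in degree `j` then `(E^{j+1} / d E^j)_q` is flat over `R`, for `q` over `p`.
* `local_cok` : the local case; then `E` is exact in degree `j` too.
-/

set_option autoImplicit false
set_option linter.style.haveILetI false
universe u

open CategoryTheory CategoryTheory.Limits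

attribute [local instance] HasDerivedCategory.standard

namespace K366.CxFib

open DRing Groth.Agent Groth.Agent.Flat2C.TorAmpCone Groth.Agent.Flat2C.TorAmpRestr TensorProduct IsLocalRing

section Basic

variable {A : Type u} [CommRing A]

lemma range_le_ker (E : Cx A) (i j k : ℤ) : LinearMap.range (E.d i j).hom ≤ LinearMap.ker (E.d j k).hom := by
  rintro _ ⟨x, rfl⟩
  exact d_d_apply E i j k x

/-- the map from the cokernel -/
noncomputable def cokMap (E : Cx A) (i j k : ℤ) : Cok E i j →ₗ[A] E.X k :=
  Submodule.liftQ _ (E.d j k).hom (range_le_ker E i j k)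

/-- the projection to the cokernel -/
noncomputable def cokPi (E : Cx A) (i j : ℤ) : E.X j →ₗ[A] Cok E i j := Submodule.mkQ _

lemma cokPi_surjective (E : Cx A) (i j : ℤ) : Function.Surjective (cokPi E i j) := Submodule.mkQ_surjective _

lemma cokPi_comp (E : Cx A) (i j : ℤ) (x : E.X i) : cokPi E i j ((E.d i j).hom x) = 0 :=
  (Submodule.Quotient.mk_eq_zero _).2 ⟨x, rfl⟩

lemma cokMap_cokPi (E : Cx A) (i j k : ℤ) (x : E.X j) : cokMap E i j k (cokPi E i j x) = (E.d j k).hom x := rfl

lemma cokMap_mk (E : Cx A) (i j k : ℤ) (x : E.X j) :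
    cokMap E i j k (Submodule.Quotient.mk x) = (E.d j k).hom x := rfl

lemma range_cokMap (E : Cx A) (i j k : ℤ) :
    LinearMap.range (cokMap E i j k) = LinearMap.range (E.d j k).hom :=
  Submodule.range_liftQ _ _ _

lemma exactAt_iff_exact (E : Cx A) {i j k : ℤ} (hij : i + 1 = j) (hjk : j + 1 = k) :
    E.ExactAt j ↔ Function.Exact (E.d i j).hom (E.d j k).hom := by
  rw [HomologicalComplex.exactAt_iff' E i j k (by simp; omega) (by simp; omega)]
  exact ShortComplex.ShortExact.moduleCat_exact_iff_function_exact _

lemma exactAt_of_injective_cokMap (E : Cx A) {i j k : ℤ} (hij : i + 1 = j) (hjk : j + 1 = k)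
    (h : Function.Injective (cokMap E i j k)) : E.ExactAt j := by
  rw [exactAt_iff_exact E hij hjk]
  intro x
  constructor
  · intro hx
    have h1 : cokMap E i j k (Submodule.Quotient.mk x) = cokMap E i j k 0 := by
      rw [cokMap_mk, hx, map_zero]
    exact (Submodule.Quotient.mk_eq_zero _).1 (h h1)
  · rintro ⟨y, rfl⟩
    exact d_d_apply E i j k y

lemma injective_cokMap_of_exactAt (E : Cx A) {i j k : ℤ} (hij : i + 1 = j) (hjk : j + 1 = k)
    (h : E.ExactAt j) : Function.Injective (cokMap E i j k) := by
  rw [exactAt_iff_exact E hij hjk] at h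
  rw [injective_iff_map_eq_zero]
  intro x hx
  obtain ⟨x, rfl⟩ := Submodule.Quotient.mk_surjective _ x
  rw [cokMap_mk] at hx
  exact (Submodule.Quotient.mk_eq_zero _).2 ((h x).1 hx)

instance finite_cok (E : Cx A) (i j : ℤ) [Module.Finite A (E.X j)] : Module.Finite A (Cok E i j) :=
  Module.Finite.quotient A _

theorem finitePresentation_cok (E : Cx A) (i j : ℤ) [Module.Finite A (E.X i)]
    [Module.FinitePresentation A (E.X j)] : Module.FinitePresentation A (Cok E i j) := by
  refine Module.finitePresentation_of_surjective (Submodule.mkQ _) (Submodule.mkQ_surjective _) ?_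
  rw [Submodule.ker_mkQ]
  exact Submodule.FG.of_finite (N := LinearMap.range (E.d i j).hom)

/-- `HD` of a complex -/
theorem subsingleton_HD_iff (E : Cx A) (i : ℤ) : Subsingleton (Dual.HD A (toD E) i) ↔ E.ExactAt i := by
  have e := (DerivedCategory.homologyFunctorFactors (ModuleCat.{u} A) i).app E
  rw [HomologicalComplex.exactAt_iff_isZero_homology]
  constructor
  · intro h
    have h1 : IsZero ((DerivedCategory.homologyFunctor (ModuleCat.{u} A) i).obj (toD E)) :=
      @ModuleCat.isZero_of_subsingleton A _ _ h
    exact h1.of_iso e.symm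
  · intro h
    exact ModuleCat.subsingleton_of_isZero (h.of_iso e)

theorem subsingleton_HD_of_iso {K L : Dual.D A} (e : K ≅ L) (i : ℤ) (h : Subsingleton (Dual.HD A K i)) :
    Subsingleton (Dual.HD A L i) := by
  have h1 : IsZero ((DerivedCategory.homologyFunctor (ModuleCat.{u} A) i).obj K) :=
    @ModuleCat.isZero_of_subsingleton A _ _ h
  exact ModuleCat.subsingleton_of_isZero
    (h1.of_iso ((DerivedCategory.homologyFunctor (ModuleCat.{u} A) i).mapIso e).symm)

end Basic

/-- right exactness -/
lemma rTensor_injective_of_exact {R : Type u} [CommRing R] {X Y Z C : Type u} [AddCommGroup X] [Module R X]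
    [AddCommGroup Y] [Module R Y] [AddCommGroup Z] [Module R Z] [AddCommGroup C] [Module R C]
    (f : X →ₗ[R] Y) (g : Y →ₗ[R] Z) (c : Y →ₗ[R] C) (hfc : c ∘ₗ f = 0) (hc : Function.Surjective c)
    (g' : C →ₗ[R] Z) (hg : g' ∘ₗ c = g) (Q : Type u) [AddCommGroup Q] [Module R Q]
    (hex : Function.Exact (f.rTensor Q) (g.rTensor Q)) : Function.Injective (g'.rTensor Q) := by
  rw [injective_iff_map_eq_zero]
  intro z hz
  obtain ⟨w, rfl⟩ := LinearMap.rTensor_surjective Q hc z
  have h1 : g.rTensor Q w = 0 := by
    rw [← hg, LinearMap.rTensor_comp]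
    exact hz
  obtain ⟨v, rfl⟩ := (hex w).1 h1
  have h2 : (c ∘ₗ f).rTensor Q v = 0 := by
    rw [hfc, LinearMap.rTensor_zero, LinearMap.zero_apply]
  rwa [LinearMap.rTensor_comp] at h2

section Rel

variable {R A : Type u} [CommRing R] [CommRing A] [Algebra R A]

/-- the `R`-module underlying an `A`-module -/
noncomputable abbrev modR (R : Type u) [CommRing R] [Algebra R A] (M : Type u) [AddCommGroup M] [Module A M] :
    Module R M := Module.compHom M (algebraMap R A)

lemma towerR (M : Type u) [AddCommGroup M] [Module A M] :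
    letI := modR (A := A) R M
    IsScalarTower R A M := by
  letI := modR (A := A) R M
  exact ⟨fun r a m => by rw [Algebra.smul_def, mul_smul]; rfl⟩

theorem injective_of_fibre_exactAt (E : Cx A) {i j k : ℤ} (hij : i + 1 = j) (hjk : j + 1 = k)
    (Q : Type u) [AddCommGroup Q] [Module R Q]
    (hex : (tensorCx ((restrictCx (algebraMap R A)).obj E) (ModuleCat.of R Q)).ExactAt j) :
    letI := modR (A := A) R (Cok E i j)
    letI := modR (A := A) R (E.X k)
    haveI := towerR (R := R) (A := A) (Cok E i j)
    haveI := towerR (R := R) (A := A) (E.X k)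
    Function.Injective (((cokMap E i j k).restrictScalars R).rTensor Q) := by
  letI := modR (A := A) R (Cok E i j)
  letI := modR (A := A) R (E.X k)
  haveI := towerR (R := R) (A := A) (Cok E i j)
  haveI := towerR (R := R) (A := A) (E.X k)
  letI := modR (A := A) R (E.X i)
  letI := modR (A := A) R (E.X j)
  haveI := towerR (R := R) (A := A) (E.X i)
  haveI := towerR (R := R) (A := A) (E.X j)
  let f : E.X i →ₗ[R] E.X j := (E.d i j).hom.restrictScalars R
  let g : E.X j →ₗ[R] E.X k := (E.d j k).hom.restrictScalars R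
  let c : E.X j →ₗ[R] Cok E i j := (cokPi E i j).restrictScalars R
  have hfc : c ∘ₗ f = 0 := LinearMap.ext fun x => cokPi_comp E i j x
  have hc : Function.Surjective c := cokPi_surjective E i j
  have hgc : ((cokMap E i j k).restrictScalars R) ∘ₗ c = g := LinearMap.ext fun x => cokMap_cokPi E i j k x
  have hex' : Function.Exact (f.rTensor Q) (g.rTensor Q) := by
    rw [exactAt_iff_exact _ hij hjk] at hex
    exact hex
  exact rTensor_injective_of_exact f g c hfc hc _ hgc Q hex'

/-- flatness of the cokernel at a prime -/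
theorem flatAt_cok [Algebra.FiniteType R A] (E : Cx A) {i j k : ℤ} (hij : i + 1 = j) (hjk : j + 1 = k)
    [Module.Finite A (E.X j)] (hk : Module.Flat R ((ModuleCat.restrictScalars (algebraMap R A)).obj (E.X k)))
    (q : Ideal A) [q.IsPrime] (p : Ideal R) [p.IsPrime] (hpq : p = q.comap (algebraMap R A))
    (hex : (tensorCx ((restrictCx (algebraMap R A)).obj E) (ModuleCat.of R p.ResidueField)).ExactAt j) :
    letI := modR (A := A) R (Cok E j k)
    haveI := towerR (R := R) (A := A) (Cok E j k)
    Module.Flat R (LocalizedModule q.primeCompl (Cok E j k)) := by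
  letI := modR (A := A) R (Cok E j k)
  haveI := towerR (R := R) (A := A) (Cok E j k)
  letI := modR (A := A) R (Cok E i j)
  letI := modR (A := A) R (E.X k)
  haveI := towerR (R := R) (A := A) (Cok E i j)
  haveI := towerR (R := R) (A := A) (E.X k)
  haveI : Module.Flat R (E.X k) := hk
  have h1 := injective_of_fibre_exactAt E hij hjk p.ResidueField hex
  have h2 := FibCrit.main_at q p hpq (cokMap E i j k) ((LinearMap.lTensor_inj_iff_rTensor_inj _ _).2 h1)
  let e : (E.X k ⧸ LinearMap.range (cokMap E i j k)) ≃ₗ[A] Cok E j k :=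
    Submodule.quotEquivOfEq _ _ (range_cokMap E i j k)
  let e' : LocalizedModule q.primeCompl (E.X k ⧸ LinearMap.range (cokMap E i j k))
      ≃ₗ[Localization.AtPrime q] LocalizedModule q.primeCompl (Cok E j k) :=
    IsLocalizedModule.mapEquiv q.primeCompl (LocalizedModule.mkLinearMap q.primeCompl _)
      (LocalizedModule.mkLinearMap q.primeCompl _) (Localization.AtPrime q) e
  exact Module.Flat.of_linearEquiv ((e'.restrictScalars A).restrictScalars R).symm

/-- local case -/
theorem local_cok [IsLocalRing R] [IsLocalRing A] [IsLocalHom (algebraMap R A)] [Algebra.EssFiniteType R A]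
    (E : Cx A) {i j k : ℤ} (hij : i + 1 = j) (hjk : j + 1 = k) [Module.Finite A (E.X j)]
    (hk : Module.Flat R ((ModuleCat.restrictScalars (algebraMap R A)).obj (E.X k)))
    (hex : (tensorCx ((restrictCx (algebraMap R A)).obj E) (ModuleCat.of R (ResidueField R))).ExactAt j) :
    E.ExactAt j ∧ Module.Flat R ((ModuleCat.restrictScalars (algebraMap R A)).obj (ModuleCat.of A (Cok E j k))) := by
  letI := modR (A := A) R (Cok E i j)
  letI := modR (A := A) R (E.X k)
  haveI := towerR (R := R) (A := A) (Cok E i j)
  haveI := towerR (R := R) (A := A) (E.X k)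
  haveI : Module.Flat R (E.X k) := hk
  have h1 := injective_of_fibre_exactAt E hij hjk (ResidueField R) hex
  obtain ⟨h2, h3⟩ := FibCrit.main_local (cokMap E i j k) ((LinearMap.lTensor_inj_iff_rTensor_inj _ _).2 h1)
  refine ⟨exactAt_of_injective_cokMap E hij hjk h2, ?_⟩
  letI := modR (A := A) R (Cok E j k)
  haveI := towerR (R := R) (A := A) (Cok E j k)
  let e : (E.X k ⧸ LinearMap.range (cokMap E i j k)) ≃ₗ[A] Cok E j k :=
    Submodule.quotEquivOfEq _ _ (range_cokMap E i j k)
  have h4 : Module.Flat R (Cok E j k) := Module.Flat.of_linearEquiv (e.restrictScalars R).symm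
  exact h4

end Rel

end K366.CxFib
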