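import Groth.Agent.Dual2.K366.StalkGlob
import Groth.Agent.DRing.K228.TorQuot2

/-!
# The local fibre criterion for relative tor amplitude on schemes

`f : X ⟶ Y` flat and locally of finite type, `E` pseudo-coherent on `X`, `x : X` and `φ : O_{Y, f x} → R₀` surjective
with `R₀ ≠ 0`.  If `E_x ⊗^L R₀` has tor amplitude in `[a, b]` over `R₀`, then `E_x` has tor amplitude in `[a, b]` over
`O_{Y, f x}` (`torAmp_of_quot`).  For `Y = Spec R`, relative tor amplitude passes to generizations (`torAmp_generize`).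
-/

set_option autoImplicit false
set_option linter.style.haveILetI false
universe u
open CategoryTheory CategoryTheory.Limits AlgebraicGeometry Opposite
attribute [local instance] HasDerivedCategory.standard

namespace K366.FibAt

open Groth.Agent K238.StalkD Groth.Agent.CycA.ProdStalk Groth.Agent.PerfC.TildeStalk Groth.Agent.K477.StalkNat
open K366.StalkGlob

section Ring

variable {R R₀ : Type u} [CommRing R] [CommRing R₀] (φ : R →+* R₀)

theorem subsingleton_of_quot (hφ : Function.Surjective φ) [DRing.HasLBaseChange φ] (L : Dual.D R) {a b : ℤ}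
    (h : DRing.HasTorAmplitudeIn R₀ a b ((DRing.LBaseChange φ).obj L)) (N : ModuleCat.{u} R)
    [DRing.HasLTensor R N] (hN : ∀ r ∈ RingHom.ker φ, ∀ n : N, r • n = 0) (i : ℤ) (hi : i < a ∨ b < i) :
    Subsingleton (Dual.HD R ((DRing.LTensor R N).obj L) i) := by
  letI := φ.toAlgebra
  haveI : DRing.HasLBaseChange (algebraMap R R₀) := inferInstanceAs (DRing.HasLBaseChange φ)
  obtain ⟨P, hP, hPf, ⟨e⟩⟩ := K228.TorQuot.exists_kproj L
  have h1 : (DRing.tensorCx P N).ExactAt i :=
    K228.TorQuot.exactAt_of_killed (A := R₀) P hφ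
      (fun N' => K228.TorQuot.exactAt_of_torAmp (A := R₀) P e h hi N') N hN
  obtain ⟨e2⟩ := K227.TorCrit.nonempty_lten_kproj N P
  exact K366.CxFib.subsingleton_HD_of_iso (e2.symm ≪≫ (DRing.LTensor R N).mapIso e) i
    ((K366.CxFib.subsingleton_HD_iff _ i).2 h1)

end Ring

variable {X Y : Scheme.{u}}

theorem exists_chart (x : X) : ∃ (A : CommRingCat.{u}) (j : Spec A ⟶ X) (_ : IsOpenImmersion j) (y : Spec A),
    j.base y = x := by
  obtain ⟨V, hV, hx, -⟩ := exists_isAffineOpen_mem_and_subset (X := X) (x := x) (U := ⊤) trivial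
  exact ⟨_, hV.fromSpec, inferInstance, hV.primeIdealOf ⟨x, hx⟩, hV.fromSpec_primeIdealOf ⟨x, hx⟩⟩

open IsLocalRing in
/-- The local fibre criterion. -/
theorem torAmp_of_quot (f : X ⟶ Y) [Flat f] [LocallyOfFiniteType f] (E : DCoh.D X)
    (hE : ∀ m : ℤ, DCoh.IsPseudoCoherentD m E) (x : X) {R₀ : Type u} [CommRing R₀] [Nontrivial R₀]
    (φ : Y.presheaf.stalk (f.base x) →+* R₀) (hφ : Function.Surjective φ) [DRing.HasLBaseChange φ] {a b : ℤ}
    (h : DRing.HasTorAmplitudeIn R₀ a b ((DRing.LBaseChange φ).obj ((stalkOverD f x).obj E))) :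
    DRing.HasTorAmplitudeIn (Y.presheaf.stalk (f.base x)) a b ((stalkOverD f x).obj E) := by
  obtain ⟨A, j, hj, y, rfl⟩ := exists_chart x
  haveI := PerfB.TildeExact.preservesFiniteLimits_tilde A
  obtain ⟨M, hM, ⟨e⟩⟩ := nonempty_chart j E hE
  let K := (stalkD y).obj ((DCoh.tildeD A).obj M)
  have hK : DRing.IsPseudoCoherent' ((Spec A).presheaf.stalk y) K := isPseudoCoherent'_stalk y hM
  letI : Algebra (Y.presheaf.stalk (f.base (j.base y))) ((Spec A).presheaf.stalk y) :=
    ((j.stalkMap y).hom.comp (f.stalkMap (j.base y)).hom).toAlgebra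
  have e1 : (stalkOverD f (j.base y)).obj E ≅ (DRing.restrictD
      (algebraMap (Y.presheaf.stalk (f.base (j.base y))) ((Spec A).presheaf.stalk y))).obj K :=
    (DRing.restrictD (f.stalkMap (j.base y)).hom).mapIso ((stalkDRestrict j y).symm.app E ≪≫
      (DRing.restrictD (j.stalkMap y).hom).mapIso ((stalkD y).mapIso e.symm)) ≪≫
    (LoccohB.LBC.restrictDComp (f.stalkMap (j.base y)).hom (j.stalkMap y).hom _ rfl).app K
  haveI : IsLocalHom (algebraMap (Y.presheaf.stalk (f.base (j.base y))) ((Spec A).presheaf.stalk y)) :=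
    inferInstanceAs (IsLocalHom ((j.stalkMap y).hom.comp (f.stalkMap (j.base y)).hom))
  haveI : Module.Flat (Y.presheaf.stalk (f.base (j.base y))) ((Spec A).presheaf.stalk y) := by
    have h1 : ((j ≫ f).stalkMap y).hom.Flat := Flat.stalkMap (j ≫ f) y
    rw [Scheme.Hom.stalkMap_comp] at h1
    exact h1
  haveI : Algebra.EssFiniteType (Y.presheaf.stalk (f.base (j.base y))) ((Spec A).presheaf.stalk y) := by
    have h1 : ((j ≫ f).stalkMap y).hom.EssFiniteType := LocallyOfFiniteType.stalkMap (j ≫ f) y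
    rw [Scheme.Hom.stalkMap_comp] at h1
    exact h1
  haveI : DRing.HasLTensor (Y.presheaf.stalk (f.base (j.base y)))
      (ModuleCat.of (Y.presheaf.stalk (f.base (j.base y)))
        (ResidueField (Y.presheaf.stalk (f.base (j.base y))))) := LoccohB.LBC.hasLTensor _
  refine torAmp_of_iso e1.symm (K366.LocFib.torAmp_local _ K hK a b fun i hi => ?_)
  refine subsingleton_of_quot φ hφ _ (torAmp_of_iso ((DRing.LBaseChange φ).mapIso e1) h) _ ?_ i hi
  intro r hr n
  have h2 : r ∈ maximalIdeal (Y.presheaf.stalk (f.base (j.base y))) := by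
    rw [mem_maximalIdeal, mem_nonunits_iff]
    intro hu
    have h3 := hu.map φ
    rw [show φ r = 0 from hr] at h3
    exact not_isUnit_zero h3
  have h3 : algebraMap (Y.presheaf.stalk (f.base (j.base y)))
      (ResidueField (Y.presheaf.stalk (f.base (j.base y)))) r = 0 :=
    (residue_eq_zero_iff r).2 h2
  change ResidueField (Y.presheaf.stalk (f.base (j.base y))) at n
  change r • n = 0
  rw [Algebra.smul_def, h3, zero_mul]

/-- Relative tor amplitude passes to generizations. -/
theorem torAmp_generize {R : CommRingCat.{u}} (f : X ⟶ Spec R) [Flat f] (E : DCoh.D X)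
    (hE : ∀ m : ℤ, DCoh.IsPseudoCoherentD m E) {x x₀ : X} (h : x ⤳ x₀) {a b : ℤ}
    (H : DRing.HasTorAmplitudeIn ((Spec R).presheaf.stalk (f.base x₀)) a b ((stalkOverD f x₀).obj E)) :
    DRing.HasTorAmplitudeIn ((Spec R).presheaf.stalk (f.base x)) a b ((stalkOverD f x).obj E) := by
  obtain ⟨A, j, hj, y₀, rfl⟩ := exists_chart x₀
  obtain ⟨y, rfl⟩ : ∃ y, j.base y = x := by
    have h1 : x ∈ Set.range j := h.mem_open j.isOpenEmbedding.isOpen_range ⟨y₀, rfl⟩
    exact h1
  have hy : y ⤳ y₀ := (j.isOpenEmbedding.isInducing.specializes_iff).1 h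
  haveI := PerfB.TildeExact.preservesFiniteLimits_tilde A
  obtain ⟨M, hM, ⟨e⟩⟩ := nonempty_chart j E hE
  rw [torAmp_iff_glob, torAmp_iff_restrict] at H ⊢
  refine torAmp_of_iso ((DRing.restrictD _).mapIso ((stalkD y).mapIso e)) ?_
  refine torAmp_generize_tilde (j ≫ f) hM hy ?_
  exact torAmp_of_iso ((DRing.restrictD _).mapIso ((stalkD y₀).mapIso e.symm)) H

/-- A uniform amplitude on a quasi-compact scheme. -/
theorem exists_uniform [CompactSpace X] (f : X ⟶ Y) (F : CochainComplex X.Modules ℤ)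
    (h : DerSch.LocFiniteTorAmplitude f F) : ∃ a b : ℤ, ∀ x : X,
      DRing.HasTorAmplitudeIn (Y.presheaf.stalk (f.base x)) a b ((stalkOverD f x).obj (DCoh.toD X F)) := by
  rw [locFiniteTorAmplitude_iff] at h
  have key : ∃ a b : ℤ, ∀ x ∈ (Set.univ : Set X),
      DRing.HasTorAmplitudeIn (Y.presheaf.stalk (f.base x)) a b ((stalkOverD f x).obj (DCoh.toD X F)) := by
    refine isCompact_univ.induction_on (p := fun s => ∃ a b : ℤ, ∀ x ∈ s,
      DRing.HasTorAmplitudeIn (Y.presheaf.stalk (f.base x)) a b ((stalkOverD f x).obj (DCoh.toD X F)))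
      ⟨0, 0, fun x hx => absurd hx (Set.notMem_empty x)⟩ ?_ ?_ ?_
    · rintro s t hst ⟨a, b, h1⟩
      exact ⟨a, b, fun x hx => h1 x (hst hx)⟩
    · rintro s t ⟨a, b, h1⟩ ⟨a', b', h2⟩
      refine ⟨min a a', max b b', fun x hx => ?_⟩
      rcases hx with hx | hx
      · exact torAmp_mono (min_le_left _ _) (le_max_left _ _) (h1 x hx)
      · exact torAmp_mono (min_le_right _ _) (le_max_right _ _) (h2 x hx)
    · intro x _
      obtain ⟨V, a, b, hx, h1⟩ := h x
      exact ⟨V, mem_nhdsWithin_of_mem_nhds (V.2.mem_nhds hx), a, b, h1⟩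
  obtain ⟨a, b, h1⟩ := key
  exact ⟨a, b, fun x => h1 x trivial⟩

/-- Every point specializes to the closed subscheme over an ideal in the Jacobson radical. -/
theorem exists_specializes (R : Type u) [CommRing R] (I : Ideal R)
    (hI : I ≤ Ideal.jacobson ⊥) (f : X ⟶ Spec (CommRingCat.of R)) [IsProper f] (x : X) :
    ∃ w : ↥(pullback f (Spec.map (CommRingCat.ofHom (Ideal.Quotient.mk I)))),
      x ⤳ (pullback.fst f (Spec.map (CommRingCat.ofHom (Ideal.Quotient.mk I)))).base w := by
  obtain ⟨m, hm, hpm⟩ := Ideal.exists_le_maximal (f.base x).asIdeal (f.base x).2.ne_top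
  let s : PrimeSpectrum R := ⟨m, hm.isPrime⟩
  have hs : f.base x ⤳ (s : Spec (CommRingCat.of R)) := by
    have h1 : (f.base x : PrimeSpectrum R) ⤳ s :=
      (PrimeSpectrum.le_iff_specializes (f.base x : PrimeSpectrum R) s).1 hpm
    exact h1
  obtain ⟨x₀, hx₀, hfx₀⟩ := f.isClosedMap.specializingMap hs
  have hr : x₀ ∈ Set.range (pullback.fst f (Spec.map (CommRingCat.ofHom (Ideal.Quotient.mk I)))) := by
    rw [Scheme.Pullback.range_fst]
    change f.base x₀ ∈ Set.range (Spec.map (CommRingCat.ofHom (Ideal.Quotient.mk I))).base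
    rw [hfx₀]
    have h2 : s ∈ Set.range (PrimeSpectrum.comap (Ideal.Quotient.mk I)) := by
      rw [range_comap_of_surjective _ _ Ideal.Quotient.mk_surjective, Ideal.mk_ker]
      intro r hr
      have h3 : r ∈ Ideal.jacobson (⊥ : Ideal R) := hI hr
      rw [Ideal.jacobson, Ideal.mem_sInf] at h3
      exact h3 ⟨bot_le, hm⟩
    exact h2
  obtain ⟨w, hw⟩ := hr
  exact ⟨w, by rw [show (pullback.fst f _).base w = x₀ from hw]; exact hx₀⟩

end K366.FibAt
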