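import Groth.Agent.S2107
import Groth.Agent.Flat2B.FlatLocusAux
import Mathlib.RingTheory.Localization.BaseChange
import Mathlib.Algebra.Module.LocalizedModule.Exact

/-!
# A fibrewise criterion for flatness of cokernels

`R → A` of finite type, `u : N → M` a map of `A`-modules, `N` finite, `M` flat over `R`, `q` a prime of `A` over `p`.
If `u ⊗_R κ(p)` is injective then `u_q` is injective and `(M / u N)_q` is flat over `R` (`main_at`).
-/

set_option autoImplicit false
set_option linter.style.haveILetI false
universe u

namespace K366.FibCrit

open TensorProduct IsLocalRing Groth.Agent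

theorem flat_quotient {R : Type u} [CommRing R] {N M : Type u} [AddCommGroup N] [Module R N] [AddCommGroup M]
    [Module R M] [Module.Flat R M] (u : N →ₗ[R] M)
    (h : ∀ (Q : Type u) [AddCommGroup Q] [Module R Q], Function.Injective (u.lTensor Q)) :
    Function.Injective u ∧ Module.Flat R (M ⧸ LinearMap.range u) := by
  have h3 : ∀ I : Ideal R, (I • (⊤ : Submodule R M)).comap u ≤ I • (⊤ : Submodule R N) := by
    intro I x hx
    rw [Submodule.mem_comap, ← Groth.Agent.FlatA.FibreCrit2.one_tmul_eq_zero_iff] at hx
    rw [← Groth.Agent.FlatA.FibreCrit2.one_tmul_eq_zero_iff]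
    apply h (R ⧸ I)
    rw [LinearMap.lTensor_tmul, hx, map_zero]
  constructor
  · intro x y hxy
    have h4 := h R
    have h5 : (1 : R) ⊗ₜ[R] x = 1 ⊗ₜ y := by
      apply h4
      rw [LinearMap.lTensor_tmul, LinearMap.lTensor_tmul]
      exact congrArg _ hxy
    simpa using congrArg (TensorProduct.lid R N) h5
  · exact Groth.Agent.FlatA.FibreCrit.flat_quotient_range_of_comap_smul_le u h3

/-- local case -/
theorem main_local {R A : Type u} [CommRing R] [CommRing A] [Algebra R A]
    {N M : Type u} [AddCommGroup N] [Module A N] [Module R N] [IsScalarTower R A N]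
    [AddCommGroup M] [Module A M] [Module R M] [IsScalarTower R A M]
    [IsLocalRing R] [IsLocalRing A] [IsLocalHom (algebraMap R A)]
    [Algebra.EssFiniteType R A] [Module.Finite A N] [Module.Flat R M] (u : N →ₗ[A] M)
    (h : Function.Injective ((u.restrictScalars R).lTensor (ResidueField R))) :
    Function.Injective u ∧ Module.Flat R (M ⧸ LinearMap.range u) := by
  obtain ⟨-, h2, -⟩ := Groth.Agent.Flat2A.ModInj.main u h
  exact flat_quotient (u.restrictScalars R) h2

section At

variable {R A : Type u} [CommRing R] [CommRing A] [Algebra R A]
    {N M : Type u} [AddCommGroup N] [Module A N] [Module R N] [IsScalarTower R A N]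
    [AddCommGroup M] [Module A M] [Module R M] [IsScalarTower R A M]

/-- localization of an injective `u ⊗_R Q`. -/
theorem injective_localized (T : Submonoid A) {N' M' : Type u} [AddCommGroup N'] [Module A N'] [Module R N']
    [IsScalarTower R A N'] [AddCommGroup M'] [Module A M'] [Module R M'] [IsScalarTower R A M']
    (f : N →ₗ[A] N') (g : M →ₗ[A] M') [IsLocalizedModule T f] [IsLocalizedModule T g]
    (u : N →ₗ[A] M) (u' : N' →ₗ[A] M') (hu : u' ∘ₗ f = g ∘ₗ u) (Q : Type u) [AddCommGroup Q] [Module R Q]
    (h : Function.Injective ((u.restrictScalars R).rTensor Q)) :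
    Function.Injective ((u'.restrictScalars R).rTensor Q) := by
  have h1 : Function.Injective (AlgebraTensorModule.rTensor R Q u) := h
  have h2 := IsLocalizedModule.map_injective T (AlgebraTensorModule.rTensor R Q f)
    (AlgebraTensorModule.rTensor R Q g) (AlgebraTensorModule.rTensor R Q u) h1
  have h3 : IsLocalizedModule.map T (AlgebraTensorModule.rTensor R Q f)
      (AlgebraTensorModule.rTensor R Q g) (AlgebraTensorModule.rTensor R Q u) =
      AlgebraTensorModule.rTensor R Q u' := by
    apply IsLocalizedModule.linearMap_ext T (AlgebraTensorModule.rTensor R Q f)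
      (AlgebraTensorModule.rTensor R Q g)
    rw [IsLocalizedModule.map_comp]
    ext x y
    have h4 := LinearMap.congr_fun hu x
    simp only [LinearMap.comp_apply] at h4
    simp [h4]
  rw [h3] at h2
  exact h2

/-- fibrewise criterion at a prime -/
theorem main_at [Algebra.FiniteType R A] (q : Ideal A) [q.IsPrime] (p : Ideal R) [p.IsPrime]
    (hpq : p = q.comap (algebraMap R A)) [Module.Finite A N] [Module.Flat R M] (u : N →ₗ[A] M)
    (h : Function.Injective ((u.restrictScalars R).lTensor p.ResidueField)) :
    Module.Flat R (LocalizedModule q.primeCompl (M ⧸ LinearMap.range u)) := by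
  letI : Algebra (Localization.AtPrime p) (Localization.AtPrime q) :=
    (Localization.localRingHom p q (algebraMap R A) hpq).toAlgebra
  haveI : IsScalarTower R (Localization.AtPrime p) (Localization.AtPrime q) :=
    IsScalarTower.of_algebraMap_eq fun r => by
      rw [IsScalarTower.algebraMap_apply R A (Localization.AtPrime q)]
      exact (Localization.localRingHom_to_map p q (algebraMap R A) hpq r).symm
  haveI : IsLocalHom (algebraMap (Localization.AtPrime p) (Localization.AtPrime q)) :=
    Localization.isLocalHom_localRingHom p q (algebraMap R A) hpq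
  haveI : Algebra.EssFiniteType A (Localization.AtPrime q) :=
    Algebra.EssFiniteType.of_isLocalization _ q.primeCompl
  haveI : Algebra.EssFiniteType R (Localization.AtPrime q) := Algebra.EssFiniteType.comp R A _
  haveI : Algebra.EssFiniteType (Localization.AtPrime p) (Localization.AtPrime q) :=
    Algebra.EssFiniteType.of_comp R _ _
  let Nq := LocalizedModule q.primeCompl N
  let Mq := LocalizedModule q.primeCompl M
  letI : Module (Localization.AtPrime p) Nq :=
    Module.compHom _ (algebraMap (Localization.AtPrime p) (Localization.AtPrime q))
  letI : Module (Localization.AtPrime p) Mq :=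
    Module.compHom _ (algebraMap (Localization.AtPrime p) (Localization.AtPrime q))
  haveI : IsScalarTower (Localization.AtPrime p) (Localization.AtPrime q) Nq :=
    ⟨fun r a m => by rw [Algebra.smul_def, mul_smul]; rfl⟩
  haveI : IsScalarTower (Localization.AtPrime p) (Localization.AtPrime q) Mq :=
    ⟨fun r a m => by rw [Algebra.smul_def, mul_smul]; rfl⟩
  haveI : IsScalarTower R (Localization.AtPrime p) Nq := IsScalarTower.of_algebraMap_smul fun r x => by
    rw [← algebraMap_smul (Localization.AtPrime q) (algebraMap R (Localization.AtPrime p) r) x,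
      ← IsScalarTower.algebraMap_apply, algebraMap_smul]
  haveI : IsScalarTower R (Localization.AtPrime p) Mq := IsScalarTower.of_algebraMap_smul fun r x => by
    rw [← algebraMap_smul (Localization.AtPrime q) (algebraMap R (Localization.AtPrime p) r) x,
      ← IsScalarTower.algebraMap_apply, algebraMap_smul]
  let uq : Nq →ₗ[Localization.AtPrime q] Mq := LocalizedModule.map q.primeCompl u
  have hcomm : (uq.restrictScalars A) ∘ₗ LocalizedModule.mkLinearMap q.primeCompl N =
      LocalizedModule.mkLinearMap q.primeCompl M ∘ₗ u := by
    ext x
    exact IsLocalizedModule.map_apply q.primeCompl (LocalizedModule.mkLinearMap q.primeCompl N)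
      (LocalizedModule.mkLinearMap q.primeCompl M) u x
  have h1 : Function.Injective (((uq.restrictScalars A).restrictScalars R).rTensor p.ResidueField) :=
    injective_localized q.primeCompl (LocalizedModule.mkLinearMap q.primeCompl N)
      (LocalizedModule.mkLinearMap q.primeCompl M) u (uq.restrictScalars A) hcomm _
      ((LinearMap.lTensor_inj_iff_rTensor_inj _ _).1 h)
  have h2 : Function.Injective ((uq.restrictScalars (Localization.AtPrime p)).rTensor p.ResidueField) := by
    let eN := IsLocalization.moduleTensorEquiv p.primeCompl (Localization.AtPrime p) Nq p.ResidueField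
    let eM := IsLocalization.moduleTensorEquiv p.primeCompl (Localization.AtPrime p) Mq p.ResidueField
    have h3 : ∀ z : Nq ⊗[Localization.AtPrime p] p.ResidueField,
        eM ((uq.restrictScalars (Localization.AtPrime p)).rTensor p.ResidueField z) =
        ((uq.restrictScalars A).restrictScalars R).rTensor p.ResidueField (eN z) := by
      intro z
      induction z using TensorProduct.induction_on with
      | zero => simp
      | tmul a b => rfl
      | add a b ha hb => rw [map_add, map_add, ha, hb, map_add, map_add]
    intro x y hxy
    apply eN.injective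
    apply h1
    rw [← h3, ← h3, hxy]
  haveI : Module.Flat R Mq :=
    Flat2B.FlatLocusAux.flat_of_isLocalizedModule_source q.primeCompl (LocalizedModule.mkLinearMap q.primeCompl M)
  haveI : Module.Flat (Localization.AtPrime p) Mq :=
    (Module.flat_iff_of_isLocalization (Localization.AtPrime p) p.primeCompl Mq).2 inferInstance
  obtain ⟨h4, h5⟩ := main_local uq ((LinearMap.lTensor_inj_iff_rTensor_inj _ _).2 h2)
  let π := LocalizedModule.map q.primeCompl (LinearMap.range u).mkQ
  have hπ : Function.Surjective π := LocalizedModule.map_surjective q.primeCompl _ (Submodule.mkQ_surjective _)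
  have hex : Function.Exact uq π := LocalizedModule.map_exact q.primeCompl u (LinearMap.range u).mkQ
    (LinearMap.exact_map_mkQ_range u)
  let e : (Mq ⧸ LinearMap.range uq) ≃ₗ[Localization.AtPrime q] LocalizedModule q.primeCompl (M ⧸ LinearMap.range u) :=
    (Submodule.quotEquivOfEq _ _ (LinearMap.exact_iff.1 hex).symm) ≪≫ₗ LinearMap.quotKerEquivOfSurjective π hπ
  haveI : Module.Flat R (Mq ⧸ LinearMap.range uq) := by
    have := h5
    exact Module.Flat.trans R (Localization.AtPrime p) _
  exact Module.Flat.of_linearEquiv ((e.restrictScalars A).restrictScalars R).symm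

end At

end K366.FibCrit
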