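import Groth.Agent.Flat2H.FlatPC3
import Groth.Agent.Flat2H.PCBridge
import Groth.Agent.Flat2C.UnivInjMod
import Mathlib.Algebra.TrivSqZeroExt.Basic
import Mathlib.RingTheory.Finiteness.ModuleFinitePresentation

/-!
# Finitely presented modules over flat finitely presented algebras

`fpInf_of_flat_module`: if `R → A` is flat of finite presentation and `M` is a finitely presented `A`-module which
is flat over `R`, then `M` is of type `FP_∞` over `A` (pseudo-coherent).
The proof applies the theorem for algebras to the trivial square zero extension `A ⊕ M`.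
-/

set_option autoImplicit false
set_option linter.style.haveILetI false
universe u

namespace K366.FlatFP

open Groth.Agent.Flat2H TensorProduct MvPolynomial

/-- A finite algebra over a flat finitely presented `R`-algebra which is flat and finitely presented over `R` is
pseudo-coherent as a module. -/
theorem fpInf_of_finite_algebra (R : Type u) {A C : Type u} [CommRing R] [CommRing A] [CommRing C] [Algebra R A]
    [Algebra A C] [Algebra R C] [IsScalarTower R A C] [Module.Flat R A] [Algebra.FinitePresentation R A]
    [Module.Flat R C] [Algebra.FinitePresentation R C] [Module.Finite A C] : FPInf A C := by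
  obtain ⟨Q, _, _, _, _, _, f, hf⟩ := Module.Finite.exists_free_surjective A C
  obtain ⟨n, θQ, hθQ⟩ := Algebra.FiniteType.iff_quotient_mvPolynomial''.1
    (Algebra.FiniteType.of_finitePresentation : Algebra.FiniteType A Q)
  have h4 : PCMap θQ.toRingHom := pcMap_of_flat θQ hθQ
  have hfp : Algebra.FinitePresentation R (MvPolynomial (Fin n) A) :=
    Algebra.FinitePresentation.trans R A (MvPolynomial (Fin n) A)
  have hfl : Module.Flat R (MvPolynomial (Fin n) A) := Module.Flat.trans R A (MvPolynomial (Fin n) A)
  obtain ⟨m, χ', hχ'⟩ := Algebra.FiniteType.iff_quotient_mvPolynomial''.1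
    (Algebra.FiniteType.of_finitePresentation : Algebra.FiniteType R (MvPolynomial (Fin n) A))
  have h1 : PCMap χ'.toRingHom := pcMap_of_flat χ' hχ'
  have h2 : PCMap ((f.comp θQ).toRingHom.comp χ'.toRingHom) :=
    pcMap_of_flat (((f.comp θQ).restrictScalars R).comp χ') ((hf.comp hθQ).comp hχ')
  have h3 : PCMap (f.toRingHom.comp θQ.toRingHom) := (h1.comp_iff).1 h2
  have h5 : PCMap f.toRingHom := h4.comp_iff.1 h3
  have h6 : PCMap (algebraMap A Q) := pcMap_algebraMap_iff.2 (FPInf.of_projective Q)
  have h7 : PCMap (f.toRingHom.comp (algebraMap A Q)) := h6.comp h5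
  have h8 : f.toRingHom.comp (algebraMap A Q) = algebraMap A C := f.comp_algebraMap
  rw [h8] at h7
  exact pcMap_algebraMap_iff.1 h7

/-- A finitely presented module over a flat finitely presented `R`-algebra `A` which is flat over `R` is
pseudo-coherent over `A`. -/
theorem fpInf_of_flat_module (R : Type u) {A M : Type u} [CommRing R] [CommRing A] [Algebra R A]
    [Module.Flat R A] [Algebra.FinitePresentation R A] [AddCommGroup M] [Module A M] [Module R M]
    [IsScalarTower R A M] [Module.FinitePresentation A M] [Module.Flat R M] : FPInf A M := by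
  letI : Module Aᵐᵒᵖ M := Module.compHom M ((RingHom.id A).fromOpposite mul_comm)
  haveI : IsCentralScalar A M := ⟨fun _ _ => rfl⟩
  haveI : IsScalarTower R Aᵐᵒᵖ M := ⟨fun r a m => by
    change (r • a).unop • m = r • (a.unop • m)
    rw [MulOpposite.unop_smul, smul_assoc]⟩
  let C := TrivSqZeroExt A M
  let e : C ≃ₗ[A] (A × M) := LinearEquiv.refl A (A × M)
  haveI : Module.FinitePresentation A (A × M) := inferInstance
  haveI : Module.FinitePresentation A C := Module.FinitePresentation.of_equiv e.symm
  haveI : IsScalarTower R A C := IsScalarTower.of_algebraMap_eq fun r => rfl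
  haveI : Algebra.FinitePresentation R C := Algebra.FinitePresentation.trans R A C
  let e' : C ≃ₗ[R] (A × M) := LinearEquiv.refl R (A × M)
  haveI : Module.Flat R (A × M) := Groth.Agent.Flat2C.UnivInjMod.flat_prod
  haveI : Module.Flat R C := Module.Flat.of_linearEquiv e'
  have h : FPInf A C := fpInf_of_finite_algebra R
  intro n
  have h1 : FPn A n (A × M) := (h n).of_equiv e
  exact FPn.of_prod_projective (h1.of_equiv (LinearEquiv.prodComm A A M))

/-- the same in terms of `DRing.IsPseudoCoherentModule'` -/
theorem isPseudoCoherentModule'_of_flat (R : Type u) {A M : Type u} [CommRing R] [CommRing A] [Algebra R A]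
    [Module.Flat R A] [Algebra.FinitePresentation R A] [AddCommGroup M] [Module A M] [Module R M]
    [IsScalarTower R A M] [Module.FinitePresentation A M] [Module.Flat R M] :
    DRing.IsPseudoCoherentModule' A M :=
  (PCBridge.isPseudoCoherentModule'_iff M).2 (fpInf_of_flat_module R)

end K366.FlatFP
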