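import Groth.Prelude.Def_DualSh
import Groth.Agent.DRing.K227.PerfFlat
import Groth.Agent.DRing.K227.FlatBC
import Groth.Agent.LoccohB.PerfTri
import Groth.Agent.LoccohB.BCMap
import Groth.Agent.PerfB.BoundedInd
import Groth.Agent.Dual2.K366.FlatFP

/-!
# Relatively perfect complexes over rings

`R → A` flat of finite presentation.
* `isRelPerfect_of_isPerfect` : perfect objects are `R`-perfect.
* `isRelPerfect_iff` : `K` is `R`-perfect iff it is represented by a bounded complex of finitely presented
  `A`-modules which are flat over `R`.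
* `isRelPerfect_lbc` : base change.
-/

set_option autoImplicit false
set_option linter.style.haveILetI false
universe u

open CategoryTheory CategoryTheory.Limits

attribute [local instance] HasDerivedCategory.standard

namespace K366.RelPerf

open DRing Groth.Agent Groth.Agent.Flat2C.TorAmpCone Groth.Agent.Flat2C.TorAmpRestr TensorProduct ZeroObject

variable {R A : Type u} [CommRing R] [CommRing A] [Algebra R A]

lemma flat_restrict [Module.Flat R A] (M : ModuleCat.{u} A) (h : Module.Flat A M) :
    Module.Flat R ((ModuleCat.restrictScalars (algebraMap R A)).obj M) := by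
  letI : Module R M := Module.compHom M (algebraMap R A)
  haveI : IsScalarTower R A M := ⟨fun r a m => by
    rw [Algebra.smul_def, mul_smul]; rfl⟩
  exact Module.Flat.trans R A M

theorem hasFiniteTorDimCx_restrict [Module.Flat R A] {K : Dual.D A} (h : HasFiniteTorDimCx A K) :
    HasFiniteTorDimCx R ((restrictD (algebraMap R A)).obj K) := by
  obtain ⟨a, b, h⟩ := h
  exact ⟨a, b, hasTorAmplitudeIn_restrict (algebraMap R A) (fun M => flat_restrict M) a b K h⟩

/-- perfect objects are relatively perfect -/
theorem isRelPerfect_of_isPerfect [Module.Flat R A] {K : Dual.D A} (hK : IsPerfect A K) :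
    Dual2.IsRelPerfect R A K :=
  ⟨K227.PerfFlat.isPseudoCoherent'_of_isPerfect hK,
    hasFiniteTorDimCx_restrict (K227.PerfFlat.hasFiniteTorDimCx_of_isPerfect hK)⟩

theorem isRelPerfect_of_iso {K L : Dual.D A} (e : K ≅ L) (h : Dual2.IsRelPerfect R A K) :
    Dual2.IsRelPerfect R A L := by
  obtain ⟨h1, a, b, h2⟩ := h
  exact ⟨LoccohB.PerfTri.isPseudoCoherent'_of_iso e h1, a, b,
    K227.PerfFlat.torAmp_of_iso ((restrictD (algebraMap R A)).mapIso e) h2⟩

/-- Representation of relatively perfect complexes. -/
theorem exists_rep [Module.Flat R A] {K : Dual.D A} (hK : Dual2.IsRelPerfect R A K) :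
    ∃ (E : Cx A) (a b : ℤ), VanishesOutside E a b ∧
      (∀ i : ℤ, Module.FinitePresentation A (E.X i) ∧
        Module.Flat R ((ModuleCat.restrictScalars (algebraMap R A)).obj (E.X i))) ∧
      Nonempty (toD E ≅ K) := by
  obtain ⟨⟨P, b, hP0, hPf, ⟨e⟩⟩, a, c, ht⟩ := hK
  have hPfl : ∀ i, Module.Flat A (P.X i) := fun i => by
    have := (hPf i).2
    infer_instance
  have hPR : TermwiseFlat ((restrictCx (algebraMap R A)).obj P) := fun i => flat_restrict (P.X i) (hPfl i)
  have ht' : HasTorAmplitudeIn R a c (toD ((restrictCx (algebraMap R A)).obj P)) :=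
    K227.PerfFlat.torAmp_of_iso (((restrictD (algebraMap R A)).mapIso e.symm) ≪≫ restrictIso _ P) ht
  have hex : ∀ i, i < a → P.ExactAt i := fun i hi => by
    rw [← exactAt_restrict_iff (algebraMap R A)]
    exact K227.PerfFlat.exactAt_of_torAmp _ ht' i (Or.inl hi)
  have hcok : Module.Flat R (Cok ((restrictCx (algebraMap R A)).obj P) (a - 1) a) :=
    K227.PerfFlat.flat_cok_of_torAmp _ b (fun i hi => (ModuleCat.restrictScalars (algebraMap R A)).map_isZero (hP0 i hi))
      hPR ht' (by omega)
  have hcok' : Module.Flat R ((ModuleCat.restrictScalars (algebraMap R A)).obj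
      (ModuleCat.of A (Cok P (a - 1) a))) := hcok
  have hGE : P.IsGE a := by
    rw [CochainComplex.isGE_iff]
    exact hex
  obtain ⟨e1⟩ := nonempty_opcycles_equiv P (show a - 1 + 1 = a by omega)
  have hop : Module.Flat R ((ModuleCat.restrictScalars (algebraMap R A)).obj (P.opcycles a)) :=
    Module.Flat.of_linearEquiv (((ModuleCat.restrictScalars (algebraMap R A)).mapIso e1.toModuleIso).toLinearEquiv)
  refine ⟨P.truncGE a, a, b, ?_, ?_, ⟨(asIso (DerivedCategory.Q.map (P.πTruncGE a))).symm ≪≫ e⟩⟩
  · rintro i (hi | hi)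
    · exact CochainComplex.isZero_of_isStrictlyGE _ a i hi
    · rcases lt_trichotomy i a with h | h | h
      · exact CochainComplex.isZero_of_isStrictlyGE _ a i h
      · subst h
        refine IsZero.of_iso ?_ (P.truncGEXIsoOpcycles i)
        exact IsZero.of_epi (P.pOpcycles i) (hP0 i hi)
      · exact IsZero.of_iso (hP0 i hi) (P.truncGEXIso a i h)
  · intro i
    rcases lt_trichotomy i a with h | h | h
    · have h1 := CochainComplex.isZero_of_isStrictlyGE (P.truncGE a) a i h
      have h2 := ModuleCat.subsingleton_of_isZero h1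
      have h3 := ModuleCat.subsingleton_of_isZero
        ((ModuleCat.restrictScalars (algebraMap R A)).map_isZero h1)
      exact ⟨inferInstance, inferInstance⟩
    · subst h
      refine ⟨?_, ?_⟩
      · have h7 := PerfC.RingPerf.finitePresentation_opcycles P i hPf
        exact Module.FinitePresentation.of_equiv (P.truncGEXIsoOpcycles i).symm.toLinearEquiv
      · exact Module.Flat.of_linearEquiv (((ModuleCat.restrictScalars (algebraMap R A)).mapIso
          (P.truncGEXIsoOpcycles i)).toLinearEquiv)
    · refine ⟨?_, ?_⟩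
      · have h8 := (hPf i).1
        have h9 := (hPf i).2
        have h7 : Module.FinitePresentation A (P.X i) := Module.finitePresentation_of_projective A _
        exact Module.FinitePresentation.of_equiv (P.truncGEXIso a i h).symm.toLinearEquiv
      · have h10 := flat_restrict (R := R) (P.X i) (hPfl i)
        exact Module.Flat.of_linearEquiv (((ModuleCat.restrictScalars (algebraMap R A)).mapIso
          (P.truncGEXIso a i h)).toLinearEquiv)

/-- pseudo-coherent objects as a triangulated property -/
def pcProp (A : Type u) [CommRing A] : ObjectProperty (Dual.D A) := fun K => IsPseudoCoherent' A K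

instance : (pcProp A).IsClosedUnderIsomorphisms where
  of_iso e h := LoccohB.PerfTri.isPseudoCoherent'_of_iso e h

instance : (pcProp A).ContainsZero where
  exists_zero := ⟨DerivedCategory.Q.obj (0 : Cx A), DerivedCategory.Q.map_isZero (isZero_zero _),
    ⟨0, 0, fun i _ => (HomologicalComplex.eval _ _ i).map_isZero (isZero_zero _), fun i => by
      have : Subsingleton ((0 : Cx A).X i) :=
        ModuleCat.subsingleton_of_isZero ((HomologicalComplex.eval _ _ i).map_isZero (isZero_zero _))
      exact ⟨inferInstance, inferInstance⟩, ⟨Iso.refl _⟩⟩⟩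

instance : (pcProp A).IsStableUnderShift ℤ where
  isStableUnderShiftBy n := ⟨fun _ h => LoccohB.PerfTri.isPseudoCoherent'_shift n h⟩

instance : (pcProp A).IsTriangulatedClosed₂ :=
  .mk' (fun _ hT h1 h3 => LoccohB.PerfTri.isPseudoCoherent'_obj₂ hT h1 h3)

instance : (pcProp A).IsTriangulated where

/-- A bounded complex of finitely presented `R`-flat modules is relatively perfect. -/
theorem isRelPerfect_of_rep [Module.Flat R A] [Algebra.FinitePresentation R A] {K : Dual.D A}
    (E : Cx A) (a b : ℤ) (h1 : VanishesOutside E a b)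
    (h2 : ∀ i : ℤ, Module.FinitePresentation A (E.X i) ∧
      Module.Flat R ((ModuleCat.restrictScalars (algebraMap R A)).obj (E.X i))) (e : toD E ≅ K) :
    Dual2.IsRelPerfect R A K := by
  refine isRelPerfect_of_iso e ⟨?_, a, b, (restrictCx (algebraMap R A)).obj E, ?_, fun i => (h2 i).2,
    ⟨(restrictIso _ E).symm⟩⟩
  · refine PerfB.BoundedInd.bounded_induction (pcProp A) E a b h1 fun i => ?_
    obtain ⟨h3, h4⟩ := h2 i
    letI : Module R (E.X i) := Module.compHom _ (algebraMap R A)
    haveI : IsScalarTower R A (E.X i) := ⟨fun r a m => by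
      rw [Algebra.smul_def, mul_smul]; rfl⟩
    haveI : Module.Flat R (E.X i) := h4
    exact FlatFP.isPseudoCoherentModule'_of_flat R
  · intro i hi
    exact (ModuleCat.restrictScalars (algebraMap R A)).map_isZero (h1 i hi)

theorem isRelPerfect_iff [Module.Flat R A] [Algebra.FinitePresentation R A] (K : Dual.D A) :
    Dual2.IsRelPerfect R A K ↔ ∃ (E : Cx A) (a b : ℤ), VanishesOutside E a b ∧
      (∀ i : ℤ, Module.FinitePresentation A (E.X i) ∧
        Module.Flat R ((ModuleCat.restrictScalars (algebraMap R A)).obj (E.X i))) ∧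
      Nonempty (toD E ≅ K) :=
  ⟨exists_rep, fun ⟨E, a, b, h1, h2, ⟨e⟩⟩ => isRelPerfect_of_rep E a b h1 h2 e⟩

/-- derived base change preserves pseudo-coherence -/
theorem isPseudoCoherent'_lbc {B : Type u} [CommRing B] (φ : A →+* B) [HasLBaseChange φ] {K : Dual.D A}
    (hK : IsPseudoCoherent' A K) : IsPseudoCoherent' B ((LBaseChange φ).obj K) := by
  obtain ⟨E, b, h1, h2, ⟨e⟩⟩ := hK
  obtain ⟨e'⟩ := K227.LbcFlat.nonempty_lbc_iso φ E b h1 (fun i => by
    have := (h2 i).2
    infer_instance)
  refine ⟨_, b, fun i hi => ?_, fun i => ?_, ⟨e'.symm ≪≫ (LBaseChange φ).mapIso e⟩⟩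
  · exact (ModuleCat.extendScalars φ).map_isZero (h1 i hi)
  · obtain ⟨h3, h4⟩ := h2 i
    let _ := φ.toAlgebra
    exact ⟨inferInstanceAs (Module.Finite B (B ⊗[A] (E.X i))), inferInstanceAs (Module.Free B (B ⊗[A] (E.X i)))⟩

section Push

variable (R A) (R' A' : Type u) [CommRing R'] [CommRing A'] [Algebra R R'] [Algebra R' A'] [Algebra A A']
  [Algebra R A'] [IsScalarTower R R' A'] [IsScalarTower R A A'] [Algebra.IsPushout R R' A A']

/-- restriction to the base commutes with base change -/
noncomputable def restrictLbcIso [Module.Flat R A] [HasLBaseChange (algebraMap R R')]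
    [HasLBaseChange (algebraMap A A')] (K : Dual.D A) :
    (LBaseChange (algebraMap R R')).obj ((restrictD (algebraMap R A)).obj K) ≅
      (restrictD (algebraMap R' A')).obj ((LBaseChange (algebraMap A A')).obj K) :=
  haveI := LoccohB.BCMap.isIso_bcm R R' R R' A A'
  (asIso (LoccohB.BCMap.bcm R R' A A')).app K

/-- base change of relatively perfect objects -/
theorem isRelPerfect_lbc [Module.Flat R A] [HasLBaseChange (algebraMap A A')]
    {K : Dual.D A} (hK : Dual2.IsRelPerfect R A K) :
    Dual2.IsRelPerfect R' A' ((LBaseChange (algebraMap A A')).obj K) := by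
  haveI : HasLBaseChange (algebraMap R R') := LoccohB.LBC.hasLBaseChange _
  obtain ⟨h1, a, b, h2⟩ := hK
  exact ⟨isPseudoCoherent'_lbc _ h1, a, b, K227.PerfFlat.torAmp_of_iso (restrictLbcIso R A R' A' K)
    (K227.FlatBC.torAmp_lbc (algebraMap R R') _ a b h2)⟩

end Push

end K366.RelPerf
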