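import Groth.Agent.Dual2.K366.CxFib
import Groth.Agent.Dual2.K366.RelPerf
import Groth.Agent.LoccohB.LBC2
import Mathlib.RingTheory.Nakayama

/-!
# Tor amplitude at a prime from the fibre

`torAmp_at` : `R → A` flat of finite type, `q` a prime of `A` over `p`, `K` pseudo-coherent in `D(A)`. If the cohomology
of `K_q ⊗^L κ(p)` vanishes outside `[a, b]` then `K_q` has tor amplitude in `[a, b]` over `R`.
-/

set_option autoImplicit false
set_option linter.style.haveILetI false
universe u

open CategoryTheory CategoryTheory.Limits

attribute [local instance] HasDerivedCategory.standard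

namespace K366.LocFib

open DRing Groth.Agent Groth.Agent.Flat2C.TorAmpCone Groth.Agent.Flat2C.TorAmpRestr TensorProduct CxFib RelPerf
  IsLocalRing

/-- the upper bound of the tor amplitude is a matter of cohomology -/
theorem torAmp_upper {R : Type u} [CommRing R] {K : Dual.D R} {a b c : ℤ} (h : HasTorAmplitudeIn R a c K)
    (hb : ∀ i, b < i → Subsingleton (Dual.HD R K i)) : HasTorAmplitudeIn R a b K := by
  obtain ⟨P, h1, h2, ⟨e⟩⟩ := K227.PerfFlat.exists_projective_rep K b hb
  have h3 : HasTorAmplitudeIn R a c (toD P) := K227.PerfFlat.torAmp_of_iso e.symm h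
  have h4 : TermwiseFlat P := fun i => flat_of_projective (h2 i)
  exact K227.PerfFlat.torAmp_of_iso e (K227.PerfFlat.torAmp_of_flat_cok P a b (a - 1) (by omega) h1
    (fun i hi => K227.PerfFlat.exactAt_of_torAmp P h3 i (Or.inl hi)) h4
    (K227.PerfFlat.flat_cok_of_torAmp P b h1 h4 h3 (by omega)))

section Above

variable {A : Type u} [CommRing A]

/-- the cycles are a direct summand -/
def CycRet (F : Cx A) (s t : ℤ) : Prop :=
  ∃ π : F.X s →ₗ[A] F.X s, (∀ x, (F.d s t).hom (π x) = 0) ∧ ∀ x, (F.d s t).hom x = 0 → π x = x

theorem cycRet_step (F : Cx A) {s t v : ℤ} (hst : s + 1 = t) (htv : t + 1 = v) (hp : Module.Projective A (F.X t))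
    (h : CycRet F t v) (hex : F.ExactAt t) : CycRet F s t := by
  obtain ⟨π, h1, h2⟩ := h
  let Z : Submodule A (F.X t) := LinearMap.ker (F.d t v).hom
  let π' : F.X t →ₗ[A] Z := π.codRestrict Z h1
  have hZ : Module.Projective A Z := Module.Projective.of_split Z.subtype π' (by
    ext x
    exact h2 _ x.2)
  let d' : F.X s →ₗ[A] Z := (F.d s t).hom.codRestrict Z (fun x => d_d_apply F s t v x)
  rw [exactAt_iff_exact F hst htv] at hex
  have hd' : Function.Surjective d' := by
    rintro ⟨x, hx⟩
    obtain ⟨y, hy⟩ := (hex x).1 hx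
    exact ⟨y, Subtype.ext hy⟩
  obtain ⟨σ, hσ⟩ := Module.projective_lifting_property d' LinearMap.id hd'
  have hσ' : ∀ z, (F.d s t).hom (σ z) = (z : F.X t) := fun z => by
    have := congrArg Subtype.val (LinearMap.congr_fun hσ z)
    exact this
  refine ⟨LinearMap.id - σ ∘ₗ d', fun x => ?_, fun x hx => ?_⟩
  · rw [LinearMap.sub_apply, map_sub, LinearMap.comp_apply, hσ']
    exact sub_self _
  · have : d' x = 0 := Subtype.ext hx
    rw [LinearMap.sub_apply, LinearMap.comp_apply, this, map_zero, sub_zero, LinearMap.id_apply]

variable {R : Type u} [CommRing R] [Algebra R A] [IsLocalRing R] [IsLocalRing A] [IsLocalHom (algebraMap R A)]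

lemma mem_of_tmul_one_eq_zero {M : Type u} [AddCommGroup M] [Module R M] (x : M)
    (h : x ⊗ₜ[R] (1 : ResidueField R) = 0) : x ∈ maximalIdeal R • (⊤ : Submodule R M) := by
  have h1 : LinearMap.ker (TensorProduct.mk R (ResidueField R) M 1) =
      (maximalIdeal R) • (⊤ : Submodule R M) := LinearMap.ker_tensorProductMk _
  rw [← h1, LinearMap.mem_ker]
  have h2 := congrArg (TensorProduct.comm R M (ResidueField R)) h
  rw [map_zero, TensorProduct.comm_tmul] at h2
  exact h2

lemma exists_tmul_one {M : Type u} [AddCommGroup M] [Module R M] (w : M ⊗[R] ResidueField R) :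
    ∃ x : M, x ⊗ₜ[R] (1 : ResidueField R) = w := by
  obtain ⟨x, hx⟩ := TensorProduct.mk_surjective R M (ResidueField R) IsLocalRing.residue_surjective
    (TensorProduct.comm R M (ResidueField R) w)
  refine ⟨x, (TensorProduct.comm R M (ResidueField R)).injective ?_⟩
  rw [TensorProduct.comm_tmul]
  exact hx

theorem exactAt_step (F : Cx A) {s t v : ℤ} (hst : s + 1 = t) (htv : t + 1 = v) [Module.Finite A (F.X t)]
    (h : CycRet F t v)
    (hex : (tensorCx ((restrictCx (algebraMap R A)).obj F) (ModuleCat.of R (ResidueField R))).ExactAt t) :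
    F.ExactAt t := by
  obtain ⟨π, h1, h2⟩ := h
  letI := modR (A := A) R (F.X s)
  letI := modR (A := A) R (F.X t)
  letI := modR (A := A) R (F.X v)
  haveI := towerR (R := R) (A := A) (F.X s)
  haveI := towerR (R := R) (A := A) (F.X t)
  haveI := towerR (R := R) (A := A) (F.X v)
  let f : F.X s →ₗ[R] F.X t := (F.d s t).hom.restrictScalars R
  let g : F.X t →ₗ[R] F.X v := (F.d t v).hom.restrictScalars R
  have hex' : Function.Exact (f.rTensor (ResidueField R)) (g.rTensor (ResidueField R)) := by
    rw [exactAt_iff_exact _ hst htv] at hex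
    exact hex
  have hle : LinearMap.ker (F.d t v).hom ≤ LinearMap.range (F.d s t).hom := by
    refine Submodule.le_of_le_smul_of_le_jacobson_bot (I := (maximalIdeal R).map (algebraMap R A)) ?_ ?_ ?_
    · have h3 : LinearMap.ker (F.d t v).hom = LinearMap.range π := by
        ext x
        exact ⟨fun hx => ⟨x, h2 x hx⟩, by
          rintro ⟨y, rfl⟩
          exact h1 y⟩
      rw [h3]
      exact Submodule.FG.of_finite
    · rw [IsLocalRing.jacobson_eq_maximalIdeal _ bot_ne_top]
      have h10 : IsLocalHom (algebraMap R A) ↔ (maximalIdeal R).map (algebraMap R A) ≤ maximalIdeal A :=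
        (IsLocalRing.local_hom_TFAE (algebraMap R A)).out 0 2
      exact h10.1 inferInstance
    · intro z hz
      obtain ⟨w, hw⟩ := (hex' (z ⊗ₜ[R] (1 : ResidueField R))).1 (by
        rw [LinearMap.rTensor_tmul]
        have : g z = 0 := hz
        rw [this, TensorProduct.zero_tmul])
      obtain ⟨y, rfl⟩ := exists_tmul_one w
      rw [LinearMap.rTensor_tmul] at hw
      have h4 : z - f y ∈ maximalIdeal R • (⊤ : Submodule R (F.X t)) := by
        apply mem_of_tmul_one_eq_zero
        rw [TensorProduct.sub_tmul, hw, sub_self]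
      have h5 : (F.d t v).hom (z - f y) = 0 := by
        rw [map_sub]
        have h6 : (F.d t v).hom z = 0 := hz
        have h7 : (F.d t v).hom (f y) = 0 := d_d_apply F s t v y
        rw [h6, h7, sub_zero]
      have h8 : z - f y ∈ (maximalIdeal R).map (algebraMap R A) • LinearMap.ker (F.d t v).hom := by
        rw [← h2 _ h5]
        refine Submodule.smul_induction_on (p := fun w => π w ∈ (maximalIdeal R).map (algebraMap R A) •
          LinearMap.ker (F.d t v).hom) h4 ?_ ?_
        · intro r hr n _
          rw [← algebraMap_smul A r n, map_smul]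
          exact Submodule.smul_mem_smul (Ideal.mem_map_of_mem _ hr) (h1 n)
        · intro x y hx hy
          rw [map_add]
          exact Submodule.add_mem _ hx hy
      have h9 : z = f y + (z - f y) := by abel
      rw [h9]
      exact Submodule.add_mem_sup ⟨y, rfl⟩ h8
  rw [exactAt_iff_exact F hst htv]
  intro x
  exact ⟨fun hx => hle hx, by
    rintro ⟨y, rfl⟩
    exact d_d_apply F s t v y⟩

theorem exactAt_above (F : Cx A) {b c : ℤ} (hc : VanishesAbove F c) (hF : TermwiseFiniteFree F)
    (hex : ∀ i, b < i →
      (tensorCx ((restrictCx (algebraMap R A)).obj F) (ModuleCat.of R (ResidueField R))).ExactAt i) :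
    ∀ i, b < i → F.ExactAt i := by
  have key : ∀ n : ℕ, ∀ i : ℤ, b < i → c < i + n → CycRet F i (i + 1) ∧ F.ExactAt i := by
    intro n
    induction n with
    | zero =>
      intro i _ hi
      have h0 := hc i (by simpa using hi)
      have := ModuleCat.subsingleton_of_isZero h0
      exact ⟨⟨0, fun x => by rw [LinearMap.zero_apply, map_zero], fun x _ => Subsingleton.elim _ _⟩,
        HomologicalComplex.ExactAt.of_isZero h0⟩
    | succ n ih =>
      intro i hi hi'
      obtain ⟨h1, h2⟩ := ih (i + 1) (by omega) (by push_cast at hi' ⊢; omega)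
      have := (hF (i + 1)).2
      have := (hF i).1
      have h3 := cycRet_step F rfl rfl inferInstance h1 h2
      exact ⟨h3, exactAt_step (R := R) F (s := i - 1) (by omega) rfl h3 (hex i hi)⟩
  intro i hi
  exact (key (c + 1 - i).toNat i hi (by have := Int.self_le_toNat (c + 1 - i); omega)).2

end Above

section Main

variable (R : Type u) {A : Type u} [CommRing R] [CommRing A] [Algebra R A] [IsLocalRing R] [IsLocalRing A]
  [IsLocalHom (algebraMap R A)] [Algebra.EssFiniteType R A] [Module.Flat R A]

/-- local form -/
theorem torAmp_local [HasLTensor R (ModuleCat.of R (ResidueField R))] (K : Dual.D A)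
    (hK : IsPseudoCoherent' A K) (a b : ℤ)
    (h : ∀ i : ℤ, i < a ∨ b < i → Subsingleton (Dual.HD R
      ((LTensor R (ModuleCat.of R (ResidueField R))).obj ((restrictD (algebraMap R A)).obj K)) i)) :
    HasTorAmplitudeIn R a b ((restrictD (algebraMap R A)).obj K) := by
  obtain ⟨F, c, hc, hF, ⟨e⟩⟩ := hK
  have hFf : ∀ i, Module.Flat A (F.X i) := fun i => by
    have := (hF i).2
    infer_instance
  have hflat : TermwiseFlat ((restrictCx (algebraMap R A)).obj F) := fun i => flat_restrict (F.X i) (hFf i)
  have hc' : VanishesAbove ((restrictCx (algebraMap R A)).obj F) c := fun i hi =>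
    (ModuleCat.restrictScalars (algebraMap R A)).map_isZero (hc i hi)
  have eR : (restrictD (algebraMap R A)).obj K ≅ toD ((restrictCx (algebraMap R A)).obj F) :=
    (restrictD (algebraMap R A)).mapIso e.symm ≪≫ restrictIso _ F
  obtain ⟨e'⟩ := K227.LbcFlat.nonempty_lten_iso (ModuleCat.of R (ResidueField R))
    ((restrictCx (algebraMap R A)).obj F) c hc' hflat
  have hT : ∀ i : ℤ, i < a ∨ b < i →
      (tensorCx ((restrictCx (algebraMap R A)).obj F) (ModuleCat.of R (ResidueField R))).ExactAt i := fun i hi => by
    rw [← subsingleton_HD_iff]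
    exact subsingleton_HD_of_iso ((LTensor R (ModuleCat.of R (ResidueField R))).mapIso eR ≪≫ e') i (h i hi)
  have hlow : ∀ i, i < a → F.ExactAt i ∧ Module.Flat R ((ModuleCat.restrictScalars (algebraMap R A)).obj
      (ModuleCat.of A (Cok F i (i + 1)))) := fun i hi => by
    have := (hF i).1
    exact local_cok F (i := i - 1) (by omega) rfl (hflat _) (hT i (Or.inl hi))
  have hhigh := exactAt_above (R := R) F hc hF (fun i hi => hT i (Or.inr hi))
  have h1 : HasTorAmplitudeIn R a c (toD ((restrictCx (algebraMap R A)).obj F)) := by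
    refine K227.PerfFlat.torAmp_of_flat_cok _ a c (a - 1) (by omega) hc' (fun i hi => ?_) hflat ?_
    · rw [exactAt_restrict_iff]
      exact (hlow i hi).1
    · obtain ⟨j, hj⟩ : ∃ j, j + 1 = a := ⟨a - 1, by omega⟩
      subst hj
      rw [show j + 1 - 1 = j by omega]
      exact (hlow j (by omega)).2
  refine K227.PerfFlat.torAmp_of_iso eR.symm (torAmp_upper h1 fun i hi => ?_)
  rw [subsingleton_HD_iff, exactAt_restrict_iff]
  exact hhigh i hi

end Main

theorem flat_localized {R A : Type u} [CommRing R] [CommRing A] [Algebra R A] [Module.Flat R A]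
    (q : Ideal A) [q.IsPrime] (p : Ideal R) [p.IsPrime]
    [Algebra (Localization.AtPrime p) (Localization.AtPrime q)]
    [IsScalarTower R (Localization.AtPrime p) (Localization.AtPrime q)] :
    Module.Flat (Localization.AtPrime p) (Localization.AtPrime q) := by
  rw [Module.flat_iff_of_isLocalization (Localization.AtPrime p) p.primeCompl (Localization.AtPrime q)]
  infer_instance

/-- the statement at a prime -/
theorem torAmp_at {R A : Type u} [CommRing R] [CommRing A] [Algebra R A]
    [Module.Flat R A] [Algebra.FiniteType R A]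
    (q : Ideal A) [q.IsPrime] (p : Ideal R) [p.IsPrime] (hpq : p = Ideal.comap (algebraMap R A) q)
    [HasLBaseChange (algebraMap A (Localization.AtPrime q))]
    [HasLTensor (Localization.AtPrime p) (ModuleCat.of (Localization.AtPrime p) p.ResidueField)]
    (K : Dual.D A) (hK : IsPseudoCoherent' A K) (a b : ℤ)
    (hfib : ∀ i : ℤ, i < a ∨ b < i → Subsingleton (Dual.HD (Localization.AtPrime p)
      ((LTensor (Localization.AtPrime p) (ModuleCat.of (Localization.AtPrime p) p.ResidueField)).obj
        ((restrictD (Localization.localRingHom p q (algebraMap R A) hpq)).obj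
          ((LBaseChange (algebraMap A (Localization.AtPrime q))).obj K))) i)) :
    HasTorAmplitudeIn R a b
      ((restrictD (algebraMap R (Localization.AtPrime q))).obj
        ((LBaseChange (algebraMap A (Localization.AtPrime q))).obj K)) := by
  letI : Algebra (Localization.AtPrime p) (Localization.AtPrime q) :=
    (Localization.localRingHom p q (algebraMap R A) hpq).toAlgebra
  haveI : IsScalarTower R (Localization.AtPrime p) (Localization.AtPrime q) :=
    IsScalarTower.of_algebraMap_eq fun r => by
      rw [IsScalarTower.algebraMap_apply R A (Localization.AtPrime q)]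
      exact (Localization.localRingHom_to_map p q (algebraMap R A) hpq r).symm
  haveI : IsLocalHom (algebraMap (Localization.AtPrime p) (Localization.AtPrime q)) :=
    Localization.isLocalHom_localRingHom p q (algebraMap R A) hpq
  haveI : Algebra.EssFiniteType A (Localization.AtPrime q) :=
    Algebra.EssFiniteType.of_isLocalization _ q.primeCompl
  haveI : Algebra.EssFiniteType R (Localization.AtPrime q) := Algebra.EssFiniteType.comp R A _
  haveI : Algebra.EssFiniteType (Localization.AtPrime p) (Localization.AtPrime q) :=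
    Algebra.EssFiniteType.of_comp R _ _
  haveI := flat_localized (R := R) (A := A) q p
  have h1 := torAmp_local (Localization.AtPrime p)
    ((LBaseChange (algebraMap A (Localization.AtPrime q))).obj K) (isPseudoCoherent'_lbc _ hK) a b hfib
  have h2 := hasTorAmplitudeIn_restrict (algebraMap R (Localization.AtPrime p))
    (fun M hM => flat_restrict M hM) a b _ h1
  exact K227.PerfFlat.torAmp_of_iso ((LoccohB.LBC.restrictDComp (algebraMap R (Localization.AtPrime p))
    (algebraMap (Localization.AtPrime p) (Localization.AtPrime q)) (algebraMap R (Localization.AtPrime q))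
    (IsScalarTower.algebraMap_eq R _ _)).app _) h2

end K366.LocFib
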