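import Groth.Agent.Dual2.K366.RelPerf
import Groth.Agent.DRing.K228.PerfQuot
import Groth.Agent.DRing.K228.TorQuot2

/-!
# Relative perfectness along nilpotent thickenings

`isRelPerfect_of_lbc_nilpotent` : `R' → A'` flat of finite presentation, `R' → R` surjective with nilpotent kernel; if
`K' ⊗^L_{A'} (R ⊗ A')` is `R`-perfect then `K'` is `R'`-perfect.
-/

set_option autoImplicit false
set_option linter.style.haveILetI false
universe u

open CategoryTheory CategoryTheory.Limits

attribute [local instance] HasDerivedCategory.standard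

namespace K366.Nil

open DRing Groth.Agent TensorProduct RelPerf

theorem ker_includeRight_le (R' A' R : Type u) [CommRing R'] [CommRing A'] [Algebra R' A'] [CommRing R]
    [Algebra R' R] (hs : Function.Surjective (algebraMap R' R)) :
    RingHom.ker (Algebra.TensorProduct.includeRight.toRingHom : A' →+* R ⊗[R'] A') ≤
      (RingHom.ker (algebraMap R' R)).map (algebraMap R' A') := by
  intro x hx
  have h1 : Function.Exact ((LinearMap.ker (Algebra.linearMap R' R)).subtype.rTensor A')
      ((Algebra.linearMap R' R).rTensor A') :=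
    rTensor_exact A' (Algebra.linearMap R' R).exact_subtype_ker_map hs
  obtain ⟨z, hz⟩ := (h1 ((1 : R') ⊗ₜ[R'] x)).1 (by
    rw [LinearMap.rTensor_tmul, Algebra.linearMap_apply, map_one]
    exact hx)
  have h2 : x = TensorProduct.lid R' A' ((LinearMap.ker (Algebra.linearMap R' R)).subtype.rTensor A' z) := by
    rw [hz, TensorProduct.lid_tmul, one_smul]
  rw [h2]
  clear h2 hz
  induction z using TensorProduct.induction_on with
  | zero => simp
  | tmul r y =>
    rw [LinearMap.rTensor_tmul, TensorProduct.lid_tmul, Algebra.smul_def]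
    exact Ideal.mul_mem_right _ _ (Ideal.mem_map_of_mem _ r.2)
  | add a b ha hb =>
    rw [map_add, map_add]
    exact Ideal.add_mem _ ha hb

theorem isNilpotent_ker (R' A' R : Type u) [CommRing R'] [CommRing A'] [Algebra R' A'] [CommRing R]
    [Algebra R' R] (hs : Function.Surjective (algebraMap R' R)) (hn : IsNilpotent (RingHom.ker (algebraMap R' R))) :
    IsNilpotent (RingHom.ker (Algebra.TensorProduct.includeRight.toRingHom : A' →+* R ⊗[R'] A')) := by
  obtain ⟨n, hn⟩ := hn
  refine ⟨n, le_bot_iff.1 ?_⟩
  refine (Ideal.pow_right_mono (ker_includeRight_le R' A' R hs) n).trans ?_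
  rw [← Ideal.map_pow, hn, Ideal.zero_eq_bot, Ideal.map_bot]

theorem isRelPerfect_of_lbc_nilpotent (R' A' R : Type u) [CommRing R'] [CommRing A'] [Algebra R' A']
    [CommRing R] [Algebra R' R] [Module.Flat R' A']
    (hs : Function.Surjective (algebraMap R' R)) (hn : IsNilpotent (RingHom.ker (algebraMap R' R)))
    [HasLBaseChange (Algebra.TensorProduct.includeRight.toRingHom : A' →+* R ⊗[R'] A')]
    (K' : Dual.D A')
    (hK : Dual2.IsRelPerfect R (R ⊗[R'] A')
      ((LBaseChange (Algebra.TensorProduct.includeRight.toRingHom : A' →+* R ⊗[R'] A')).obj K')) :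
    Dual2.IsRelPerfect R' A' K' := by
  letI : Algebra A' (R ⊗[R'] A') := (Algebra.TensorProduct.includeRight : A' →ₐ[R'] R ⊗[R'] A').toRingHom.toAlgebra
  haveI : IsScalarTower R' A' (R ⊗[R'] A') := IsScalarTower.of_algebraMap_eq fun r =>
    ((Algebra.TensorProduct.includeRight : A' →ₐ[R'] R ⊗[R'] A').commutes r).symm
  haveI : Algebra.IsPushout R' R A' (R ⊗[R'] A') := inferInstance
  haveI : HasLBaseChange (algebraMap A' (R ⊗[R'] A')) :=
    inferInstanceAs (HasLBaseChange (Algebra.TensorProduct.includeRight.toRingHom : A' →+* R ⊗[R'] A'))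
  haveI : HasLBaseChange (algebraMap R' R) := LoccohB.LBC.hasLBaseChange _
  obtain ⟨h1, a, b, h2⟩ := hK
  refine ⟨K228.PerfQuot.pc'_of_nilpotent _ ?_ (isNilpotent_ker R' A' R hs hn) h1, a, b,
    K228.TorQuot.torAmp_of_nilpotent (algebraMap R' R) hs hn
      (K227.PerfFlat.torAmp_of_iso (restrictLbcIso R' A' R (R ⊗[R'] A') K').symm h2)⟩
  exact Algebra.TensorProduct.includeRight_surjective A' hs

end K366.Nil
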