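import Groth.Agent.Dual2.K366.CxFib
import Groth.Agent.Dual2.K366.RelPerf
import Groth.Agent.S0387

/-!
# Relative perfectness and fibres

`isRelPerfect_of_fibres` : a pseudo-coherent `K` in `D(A)` (`R → A` flat of finite presentation) with `H^i(K) = 0` and
`H^i(K ⊗^L κ(p)) = 0` for `i ≪ 0` (depending on `p`) is `R`-perfect.
-/

set_option autoImplicit false
set_option linter.style.haveILetI false
universe u

open CategoryTheory CategoryTheory.Limits

attribute [local instance] HasDerivedCategory.standard

namespace K366.RelFib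

open DRing Groth.Agent Groth.Agent.Flat2C.TorAmpCone Groth.Agent.Flat2C.TorAmpRestr TensorProduct CxFib RelPerf

variable {R A : Type u} [CommRing R] [CommRing A] [Algebra R A]

/-- flatness of cokernels goes down along exact parts -/
theorem flatAt_of_flatAt_succ (E : Cx A) {i j k : ℤ} (hij : i + 1 = j) (hjk : j + 1 = k)
    (hk : Module.Flat R ((ModuleCat.restrictScalars (algebraMap R A)).obj (E.X k)))
    (hex : E.ExactAt j) (q : Ideal A) [q.IsPrime]
    (h : letI := modR (A := A) R (Cok E j k)
      haveI := towerR (R := R) (A := A) (Cok E j k)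
      Module.Flat R (LocalizedModule q.primeCompl (Cok E j k))) :
    letI := modR (A := A) R (Cok E i j)
    haveI := towerR (R := R) (A := A) (Cok E i j)
    Module.Flat R (LocalizedModule q.primeCompl (Cok E i j)) := by
  letI := modR (A := A) R (Cok E j k)
  haveI := towerR (R := R) (A := A) (Cok E j k)
  letI := modR (A := A) R (Cok E i j)
  letI := modR (A := A) R (E.X k)
  haveI := towerR (R := R) (A := A) (Cok E i j)
  haveI := towerR (R := R) (A := A) (E.X k)
  haveI : Module.Flat R (E.X k) := hk
  haveI : Module.Flat R (LocalizedModule q.primeCompl (E.X k)) :=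
    Flat2B.FlatLocusAux.flat_of_isLocalizedModule_source q.primeCompl
      (LocalizedModule.mkLinearMap q.primeCompl (E.X k))
  let π : E.X k →ₗ[A] Cok E j k := Submodule.mkQ _
  have hπ : Function.Surjective π := Submodule.mkQ_surjective _
  have h1 : Function.Exact (cokMap E i j k) π := by
    rw [LinearMap.exact_iff, Submodule.ker_mkQ, range_cokMap]
  have h2 := injective_cokMap_of_exactAt E hij hjk hex
  have h3 : Function.Exact (LocalizedModule.map q.primeCompl (cokMap E i j k))
    (LocalizedModule.map q.primeCompl π) := LocalizedModule.map_exact q.primeCompl _ _ h1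
  have h4 : Function.Injective (LocalizedModule.map q.primeCompl (cokMap E i j k)) :=
    LocalizedModule.map_injective q.primeCompl _ h2
  have h5 : Function.Surjective (LocalizedModule.map q.primeCompl π) :=
    LocalizedModule.map_surjective q.primeCompl _ hπ
  haveI : Module.Flat R (LocalizedModule q.primeCompl (Cok E j k)) := h
  exact Ega3A.FlatSES.flat_left
    (f := ((LocalizedModule.map q.primeCompl (cokMap E i j k)).restrictScalars A).restrictScalars R)
    (g := ((LocalizedModule.map q.primeCompl π).restrictScalars A).restrictScalars R) h4 h3 h5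

/-- the flat locus of a cokernel -/
def U (R : Type u) [CommRing R] [Algebra R A] (E : Cx A) (j k : ℤ) : Set (PrimeSpectrum A) :=
  letI := modR (A := A) R (Cok E j k)
  haveI := towerR (R := R) (A := A) (Cok E j k)
  {q : PrimeSpectrum A | Module.Flat R (LocalizedModule q.asIdeal.primeCompl (Cok E j k))}

lemma isOpen_U [Algebra.FinitePresentation R A] (E : Cx A) (hE : TermwiseFiniteFree E) (j k : ℤ) :
    IsOpen (U R E j k) := by
  letI := modR (A := A) R (Cok E j k)
  haveI := towerR (R := R) (A := A) (Cok E j k)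
  haveI := (hE j).1
  haveI := (hE k).1
  haveI := (hE k).2
  haveI : Module.FinitePresentation A (E.X k) := Module.finitePresentation_of_projective A _
  haveI := finitePresentation_cok E j k
  exact Groth.Agent.S0387.result

lemma flat_of_U_eq_univ (E : Cx A) (j k : ℤ) (h : ∀ q, q ∈ U R E j k) :
    Module.Flat R ((ModuleCat.restrictScalars (algebraMap R A)).obj (ModuleCat.of A (Cok E j k))) := by
  letI := modR (A := A) R (Cok E j k)
  haveI := towerR (R := R) (A := A) (Cok E j k)
  have h1 : Module.Flat R (Cok E j k) :=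
    Module.flat_of_isLocalized_maximal A (Cok E j k)
      (fun P _ => LocalizedModule P.primeCompl (Cok E j k))
      (fun P _ => LocalizedModule.mkLinearMap P.primeCompl (Cok E j k))
      (fun P hP => h ⟨P, hP.isPrime⟩)
  exact h1

/-- the main globalization -/
theorem exists_flat_cok [Module.Flat R A] [Algebra.FinitePresentation R A] (E : Cx A)
    (hE : TermwiseFiniteFree E) (a₀ : ℤ) (hex : ∀ i, i < a₀ → E.ExactAt i)
    (hfib : ∀ p : PrimeSpectrum R, ∃ a : ℤ, ∀ i : ℤ, i < a →
      (tensorCx ((restrictCx (algebraMap R A)).obj E) (ModuleCat.of R p.asIdeal.ResidueField)).ExactAt i) :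
    ∃ a : ℤ, a ≤ a₀ ∧
      Module.Flat R ((ModuleCat.restrictScalars (algebraMap R A)).obj (ModuleCat.of A (Cok E (a - 1) a))) := by
  have hflat : ∀ i, Module.Flat R ((ModuleCat.restrictScalars (algebraMap R A)).obj (E.X i)) := fun i =>
    flat_restrict (E.X i) (by
      have := (hE i).2
      infer_instance)
  let V : ℕ → Set (PrimeSpectrum A) := fun n => U R E (a₀ - n - 1) (a₀ - n)
  have hV : Monotone V := by
    refine monotone_nat_of_le_succ fun n q hq => ?_
    have h1 : (a₀ - ((n + 1 : ℕ) : ℤ)) = a₀ - n - 1 := by push_cast; ring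
    change q ∈ U R E (a₀ - ((n + 1 : ℕ) : ℤ) - 1) (a₀ - ((n + 1 : ℕ) : ℤ))
    rw [h1]
    exact flatAt_of_flatAt_succ E (by omega) (by omega) (hflat _) (hex _ (by omega)) q.asIdeal hq
  obtain ⟨n, hn⟩ := (isCompact_univ (X := PrimeSpectrum A)).elim_directed_cover V
    (fun n => isOpen_U E hE _ _) (by
      intro q _
      obtain ⟨a, ha⟩ := hfib (PrimeSpectrum.comap (algebraMap R A) q)
      rw [Set.mem_iUnion]
      refine ⟨(a₀ - a).toNat, ?_⟩
      have h2 := Int.self_le_toNat (a₀ - a)
      have := (hE (a₀ - ((a₀ - a).toNat : ℤ) - 1)).1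
      exact flatAt_cok E (i := a₀ - ((a₀ - a).toNat : ℤ) - 1 - 1) (by omega) (by omega) (hflat _) q.asIdeal
        (PrimeSpectrum.comap (algebraMap R A) q).asIdeal rfl (ha _ (by omega)))
    (hV.directed_le)
  exact ⟨a₀ - n, by omega, flat_of_U_eq_univ E _ _ fun q => hn (Set.mem_univ q)⟩

/-- `HD` and restriction of scalars -/
theorem subsingleton_HD_restrict_iff (K : Dual.D A) (i : ℤ) :
    Subsingleton (Dual.HD R ((restrictD (algebraMap R A)).obj K) i) ↔ Subsingleton (Dual.HD A K i) := by
  let K₀ : Cx A := DerivedCategory.Q.objPreimage K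
  let eK : toD K₀ ≅ K := DerivedCategory.Q.objObjPreimageIso K
  have e' := (restrictD (algebraMap R A)).mapIso eK.symm ≪≫ restrictIso (algebraMap R A) K₀
  constructor
  · intro h
    refine subsingleton_HD_of_iso eK i ?_
    rw [subsingleton_HD_iff, ← exactAt_restrict_iff (algebraMap R A), ← subsingleton_HD_iff]
    exact subsingleton_HD_of_iso e' i h
  · intro h
    refine subsingleton_HD_of_iso e'.symm i ?_
    rw [subsingleton_HD_iff, exactAt_restrict_iff (algebraMap R A), ← subsingleton_HD_iff]
    exact subsingleton_HD_of_iso eK.symm i h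

theorem isRelPerfect_iff_fibres [Module.Flat R A] [Algebra.FinitePresentation R A]
    [∀ p : PrimeSpectrum R, HasLTensor R (ModuleCat.of R p.asIdeal.ResidueField)]
    (K : Dual.D A) (hK : IsPseudoCoherent' A K) :
    Dual2.IsRelPerfect R A K ↔
      (∃ a : ℤ, ∀ i : ℤ, i < a → Subsingleton (Dual.HD A K i)) ∧
        ∀ p : PrimeSpectrum R, ∃ a : ℤ, ∀ i : ℤ, i < a →
          Subsingleton (Dual.HD R ((LTensor R (ModuleCat.of R p.asIdeal.ResidueField)).obj
            ((restrictD (algebraMap R A)).obj K)) i) := by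
  constructor
  · rintro ⟨-, a, b, h⟩
    refine ⟨⟨a, fun i hi => ?_⟩, fun p => ⟨a, fun i hi => ?_⟩⟩
    · rw [← subsingleton_HD_restrict_iff (R := R)]
      exact K227.PerfFlat.subsingleton_HD_of_torAmp h i (Or.inl hi)
    · obtain ⟨F, h1, h2, ⟨e⟩⟩ := h
      obtain ⟨e'⟩ := K227.LbcFlat.nonempty_lten_iso (ModuleCat.of R p.asIdeal.ResidueField) F b
        (fun i hi => h1 i (Or.inr hi)) h2
      refine subsingleton_HD_of_iso (e'.symm ≪≫
        (LTensor R (ModuleCat.of R p.asIdeal.ResidueField)).mapIso e) i ?_
      rw [subsingleton_HD_iff]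
      exact HomologicalComplex.ExactAt.of_isZero
        ((MonoidalCategory.tensorRight (ModuleCat.of R p.asIdeal.ResidueField)).map_isZero (h1 i (Or.inl hi)))
  · rintro ⟨⟨a₀, h0⟩, hfib⟩
    refine ⟨hK, ?_⟩
    obtain ⟨E, b, hb, hE, ⟨e⟩⟩ := hK
    have hEf : ∀ i, Module.Flat A (E.X i) := fun i => by
      have := (hE i).2
      infer_instance
    have hflat : TermwiseFlat ((restrictCx (algebraMap R A)).obj E) := fun i => flat_restrict (E.X i) (hEf i)
    have hb' : VanishesAbove ((restrictCx (algebraMap R A)).obj E) b := fun i hi =>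
      (ModuleCat.restrictScalars (algebraMap R A)).map_isZero (hb i hi)
    have hex : ∀ i, i < a₀ → E.ExactAt i := fun i hi => by
      rw [← subsingleton_HD_iff]
      exact subsingleton_HD_of_iso e.symm i (h0 i hi)
    have eR : (restrictD (algebraMap R A)).obj K ≅ toD ((restrictCx (algebraMap R A)).obj E) :=
      (restrictD (algebraMap R A)).mapIso e.symm ≪≫ restrictIso _ E
    obtain ⟨a, ha, hcok⟩ := exists_flat_cok (R := R) E hE a₀ hex (fun p => by
      obtain ⟨a, ha⟩ := hfib p
      refine ⟨a, fun i hi => ?_⟩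
      obtain ⟨e'⟩ := K227.LbcFlat.nonempty_lten_iso (ModuleCat.of R p.asIdeal.ResidueField)
        ((restrictCx (algebraMap R A)).obj E) b hb' hflat
      rw [← subsingleton_HD_iff]
      exact subsingleton_HD_of_iso
        ((LTensor R (ModuleCat.of R p.asIdeal.ResidueField)).mapIso eR ≪≫ e') i (ha i hi))
    refine ⟨a, b, K227.PerfFlat.torAmp_of_iso eR.symm (K227.PerfFlat.torAmp_of_flat_cok _ a b (a - 1) (by omega)
      hb' (fun i hi => ?_) hflat hcok)⟩
    rw [exactAt_restrict_iff]
    exact hex i (by omega)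

end K366.RelFib
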