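import Groth.Agent.Dual2.K366.LocFib
import Groth.Agent.DRing.K227.TorCrit

/-!
# Relative tor amplitude and flat base change on the source

`R → A → B` with `A` flat over `R` and `B` flat over `A`, `K` in `D(A)` pseudo-coherent.  If `K` has tor amplitude in
`[a, b]` over `R`, so does `K ⊗_A B` (`torAmp_source`).
-/

set_option autoImplicit false
set_option linter.style.haveILetI false
universe u

open CategoryTheory CategoryTheory.Limits

attribute [local instance] HasDerivedCategory.standard

namespace K366.SrcFlat

open DRing Groth.Agent Groth.Agent.Flat2C.TorAmpCone Groth.Agent.Flat2C.TorAmpRestr TensorProduct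
open K366.CxFib

section Lin

variable {R A B : Type u} [CommRing R] [CommRing A] [CommRing B] [Algebra R A] [Algebra A B] [Algebra R B]
  [IsScalarTower R A B] (N : Type u) [AddCommGroup N] [Module R N]

variable {X Y Z : Type u} [AddCommGroup X] [Module A X] [AddCommGroup Y] [Module A Y]
  [AddCommGroup Z] [Module A Z]

omit [Algebra R A] [IsScalarTower R A B] in
lemma smul_eq' (X : Type u) [AddCommGroup X] [Module A X] (r : R) (z : B ⊗[A] X) :
    algebraMap R B r • z = r • z := algebraMap_smul B r z

/-- the identity of `B ⊗_A X`, from the structure through `B` to the one of the tensor product -/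
noncomputable def idE (X : Type u) [AddCommGroup X] [Module A X] :
    ((ModuleCat.restrictScalars (algebraMap R B)).obj (ModuleCat.of B (B ⊗[A] X))) ≃ₗ[R] (B ⊗[A] X) :=
  { AddEquiv.refl (B ⊗[A] X) with
    map_smul' := fun r z => smul_eq' (R := R) (A := A) (B := B) X r z }

/-- the differential over `R` -/
noncomputable def resB (u : X →ₗ[A] Y) :
    ((ModuleCat.restrictScalars (algebraMap R B)).obj (ModuleCat.of B (B ⊗[A] X))) →ₗ[R]
      ((ModuleCat.restrictScalars (algebraMap R B)).obj (ModuleCat.of B (B ⊗[A] Y))) :=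
  ((ModuleCat.restrictScalars (algebraMap R B)).map (ModuleCat.ofHom (u.baseChange B))).hom

/-- the differential over `R` -/
noncomputable def resA (u : X →ₗ[A] Y) :
    ((ModuleCat.restrictScalars (algebraMap R A)).obj (ModuleCat.of A X)) →ₗ[R]
      ((ModuleCat.restrictScalars (algebraMap R A)).obj (ModuleCat.of A Y)) :=
  ((ModuleCat.restrictScalars (algebraMap R A)).map (ModuleCat.ofHom u)).hom

/-- `(B ⊗_A X) ⊗_R N = B ⊗_A (X ⊗_R N)` -/
noncomputable def ladE (X : Type u) [AddCommGroup X] [Module A X] :
    letI := modR (A := A) R X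
    haveI := towerR (R := R) (A := A) X
    ((ModuleCat.restrictScalars (algebraMap R B)).obj (ModuleCat.of B (B ⊗[A] X))) ⊗[R] N ≃+
      B ⊗[A] (X ⊗[R] N) :=
  letI := modR (A := A) R X
  haveI := towerR (R := R) (A := A) X
  ((TensorProduct.congr (idE (R := R) (A := A) (B := B) X) (LinearEquiv.refl R N)).toAddEquiv).trans
    (AlgebraTensorModule.assoc R A A B X N).toAddEquiv

lemma ladE_tmul (b : B) (x : X) (n : N) :
    letI := modR (A := A) R X
    haveI := towerR (R := R) (A := A) X
    ladE (R := R) (A := A) (B := B) N X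
      (((b ⊗ₜ[A] x : B ⊗[A] X) : (ModuleCat.restrictScalars (algebraMap R B)).obj
        (ModuleCat.of B (B ⊗[A] X))) ⊗ₜ[R] n) = b ⊗ₜ[A] (x ⊗ₜ[R] n) := rfl

/-- the ladder -/
lemma ladE_naturality (u : X →ₗ[A] Y) :
    letI := modR (A := A) R X
    haveI := towerR (R := R) (A := A) X
    letI := modR (A := A) R Y
    haveI := towerR (R := R) (A := A) Y
    ∀ z : ((ModuleCat.restrictScalars (algebraMap R B)).obj (ModuleCat.of B (B ⊗[A] X))) ⊗[R] N,
    ladE (R := R) (A := A) (B := B) N Y ((resB (R := R) u).rTensor N z) =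
      (AlgebraTensorModule.rTensor R N u).baseChange B (ladE (R := R) (A := A) (B := B) N X z) := by
  letI := modR (A := A) R X
  haveI := towerR (R := R) (A := A) X
  letI := modR (A := A) R Y
  haveI := towerR (R := R) (A := A) Y
  intro z
  induction z using TensorProduct.induction_on with
  | zero => simp only [map_zero]
  | add x y hx hy => simp only [map_add, hx, hy]
  | tmul t n =>
    change B ⊗[A] X at t
    induction t using TensorProduct.induction_on with
    | zero =>
      erw [TensorProduct.zero_tmul]
      simp only [map_zero]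
    | add x y hx hy =>
      erw [TensorProduct.add_tmul]
      simp only [map_add]
      erw [hx, hy]
    | tmul b x => rfl

theorem exact_source [Module.Flat A B] (u : X →ₗ[A] Y) (v : Y →ₗ[A] Z)
    (h : Function.Exact ((resA (R := R) u).rTensor N) ((resA (R := R) v).rTensor N)) :
    Function.Exact ((resB (R := R) (B := B) u).rTensor N) ((resB (R := R) (B := B) v).rTensor N) := by
  letI := modR (A := A) R X
  haveI := towerR (R := R) (A := A) X
  letI := modR (A := A) R Y
  haveI := towerR (R := R) (A := A) Y
  letI := modR (A := A) R Z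
  haveI := towerR (R := R) (A := A) Z
  have h1 : Function.Exact (AlgebraTensorModule.rTensor R N u) (AlgebraTensorModule.rTensor R N v) := h
  have h2 : Function.Exact ((AlgebraTensorModule.rTensor R N u).baseChange B)
      ((AlgebraTensorModule.rTensor R N v).baseChange B) := Module.Flat.lTensor_exact B h1
  refine (Function.Exact.iff_of_ladder_addEquiv (ladE (R := R) (A := A) (B := B) N X)
    (ladE (R := R) (A := A) (B := B) N Y) (ladE (R := R) (A := A) (B := B) N Z)
    (f₁₂ := ((resB (R := R) (B := B) u).rTensor N).toAddMonoidHom)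
    (f₂₃ := ((resB (R := R) (B := B) v).rTensor N).toAddMonoidHom)
    (g₁₂ := ((AlgebraTensorModule.rTensor R N u).baseChange B).toAddMonoidHom)
    (g₂₃ := ((AlgebraTensorModule.rTensor R N v).baseChange B).toAddMonoidHom) ?_ ?_).1 h2
  · ext z
    exact (ladE_naturality N u z).symm
  · ext z
    exact (ladE_naturality N v z).symm

end Lin

section Main

variable {R A B : Type u} [CommRing R] [CommRing A] [CommRing B]

/-- Flat base change on the source preserves relative tor amplitude. -/
theorem torAmp_source (ρ : R →+* A) (φ : A →+* B) (hρ : ρ.Flat) (hφ : φ.Flat) [HasLBaseChange φ] {K : Dual.D A}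
    (hK : IsPseudoCoherent' A K) {a b : ℤ} (h : HasTorAmplitudeIn R a b ((restrictD ρ).obj K)) :
    HasTorAmplitudeIn R a b ((restrictD (φ.comp ρ)).obj ((LBaseChange φ).obj K)) := by
  letI := ρ.toAlgebra
  letI := φ.toAlgebra
  letI := (φ.comp ρ).toAlgebra
  haveI : IsScalarTower R A B := IsScalarTower.of_algebraMap_eq fun _ => rfl
  haveI : Module.Flat R A := hρ
  haveI : Module.Flat A B := hφ
  haveI hRB : Module.Flat R B := Module.Flat.trans R A B
  obtain ⟨F, c, hc, hF, ⟨e⟩⟩ := hK
  have hFf : ∀ i, Module.Flat A (F.X i) := fun i => by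
    have := (hF i).2
    infer_instance
  obtain ⟨e'⟩ := K227.LbcFlat.nonempty_lbc_iso φ F c hc hFf
  have hGf : ∀ i, Module.Flat B ((((ModuleCat.extendScalars.{u, u, u} φ).mapHomologicalComplex
      (ComplexShape.up ℤ)).obj F).X i) := fun i => by
    have := hFf i
    exact inferInstanceAs (Module.Flat B (B ⊗[A] (F.X i)))
  have e1 : toD ((restrictCx (φ.comp ρ)).obj (((ModuleCat.extendScalars.{u, u, u} φ).mapHomologicalComplex
      (ComplexShape.up ℤ)).obj F)) ≅
      (restrictD (φ.comp ρ)).obj ((LBaseChange φ).obj K) :=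
    (restrictIso _ _).symm ≪≫ (restrictD (φ.comp ρ)).mapIso
      (e'.symm ≪≫ (LBaseChange φ).mapIso e)
  refine K227.PerfFlat.torAmp_of_iso e1 ?_
  have h0 : HasTorAmplitudeIn R a b (toD ((restrictCx ρ).obj F)) :=
    K227.PerfFlat.torAmp_of_iso ((restrictD ρ).mapIso e.symm ≪≫ restrictIso _ F) h
  have h1 := (K227.TorCrit.torAmp_iff_tensorCx ((restrictCx ρ).obj F) c
    (fun i hi => (ModuleCat.restrictScalars ρ).map_isZero (hc i hi))
    (fun i => RelPerf.flat_restrict (R := R) (A := A) (F.X i) (hFf i)) a b).1 h0
  refine (K227.TorCrit.torAmp_iff_tensorCx ((restrictCx (φ.comp ρ)).obj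
    (((ModuleCat.extendScalars.{u, u, u} φ).mapHomologicalComplex (ComplexShape.up ℤ)).obj F)) c
    (fun i hi => (ModuleCat.restrictScalars (φ.comp ρ)).map_isZero
      ((ModuleCat.extendScalars.{u, u, u} φ).map_isZero (hc i hi)))
    (fun i => RelPerf.flat_restrict (R := R) (A := B) _ (hGf i)) a b).2 ?_
  intro N i hi
  have h2 := h1 N i hi
  rw [K227.TorCrit.exactAt_tensorCx_iff _ N (show i - 1 + 1 = i by omega) rfl] at h2 ⊢
  exact exact_source (R := R) (A := A) (B := B) N (F.d (i - 1) i).hom (F.d i (i + 1)).hom h2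

end Main

end K366.SrcFlat
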