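import Groth.Agent.KSix.K238.StalkPull
import Groth.Agent.Divis.CartierStalk
import Groth.Agent.Dual2.K366.RelPerf

/-!
# Stalks over the base and base change along closed immersions

For a cartesian square `i : X ⟶ X'`, `f : X ⟶ Y`, `f' : X' ⟶ Y'`, `j : Y ⟶ Y'` with `j` a closed immersion and `f'`
flat, and `x : X`:

* `phi`: the map `O_{Y', f' (i x)} → O_{Y, f x}`; it is surjective with kernel `stalkIdeal j.ker (f' (i x))`;
* `isPushout`: the square of local rings is a pushout;
* `nonempty_iso`: `(Li^* K)_x` over `O_{Y, f x}` is the derived base change of `K_{i x}` over `O_{Y', f' (i x)}`.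
-/

set_option autoImplicit false
set_option linter.style.haveILetI false
universe u
open CategoryTheory CategoryTheory.Limits AlgebraicGeometry Opposite
attribute [local instance] HasDerivedCategory.standard

namespace K366.StalkBC

open Groth.Agent Groth.Agent.Divis K238.StalkD

section Ring

variable {R R' A A' : Type u} [CommRing R] [CommRing R'] [CommRing A] [CommRing A']
  [Algebra R R'] [Algebra R A] [Algebra R A'] [Algebra R' A'] [Algebra A A'] [IsScalarTower R R' A']
  [IsScalarTower R A A']

open TensorProduct in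
/-- A square of surjections is a pushout when the kernels correspond. -/
theorem isPushout_of_surjective (h1 : Function.Surjective (algebraMap R R'))
    (h2 : Function.Surjective (algebraMap A A'))
    (h3 : RingHom.ker (algebraMap A A') ≤ (RingHom.ker (algebraMap R R')).map (algebraMap R A)) :
    Algebra.IsPushout R R' A A' := by
  let g : R' ⊗[R] A →ₐ[R'] A' := Algebra.TensorProduct.lift (Algebra.ofId R' A')
    (IsScalarTower.toAlgHom R A A') (fun _ _ => Commute.all _ _)
  have hg : ∀ a : A, g (1 ⊗ₜ a) = algebraMap A A' a := fun a => by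
    change g _ = _
    rw [Algebra.TensorProduct.lift_tmul, map_one, one_mul]
    rfl
  have hone : ∀ z : R' ⊗[R] A, ∃ a : A, (1 : R') ⊗ₜ[R] a = z := by
    intro z
    induction z using TensorProduct.induction_on with
    | zero => exact ⟨0, TensorProduct.tmul_zero _ _⟩
    | tmul r a =>
      obtain ⟨r, rfl⟩ := h1 r
      exact ⟨r • a, by rw [TensorProduct.tmul_smul, TensorProduct.smul_tmul', Algebra.smul_def, mul_one]⟩
    | add x y hx hy =>
      obtain ⟨a, rfl⟩ := hx
      obtain ⟨b, rfl⟩ := hy
      exact ⟨a + b, TensorProduct.tmul_add _ _ _⟩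
  have hker : ∀ a ∈ (RingHom.ker (algebraMap R R')).map (algebraMap R A), (1 : R') ⊗ₜ[R] a = 0 := by
    intro a ha
    have h4 : (RingHom.ker (algebraMap R R')).map (algebraMap R A) ≤
        RingHom.ker (Algebra.TensorProduct.includeRight (R := R) (A := R') (B := A)).toRingHom := by
      rw [Ideal.map_le_iff_le_comap]
      intro r hr
      change (1 : R') ⊗ₜ[R] (algebraMap R A r) = 0
      rw [Algebra.algebraMap_eq_smul_one, TensorProduct.tmul_smul, TensorProduct.smul_tmul',
        Algebra.smul_def, show algebraMap R R' r = 0 from hr, zero_mul, TensorProduct.zero_tmul]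
    exact h4 ha
  have hbij : Function.Bijective g := by
    constructor
    · rw [injective_iff_map_eq_zero]
      intro z hz
      obtain ⟨a, rfl⟩ := hone z
      rw [hg] at hz
      exact hker a (h3 hz)
    · intro a'
      obtain ⟨a, rfl⟩ := h2 a'
      exact ⟨1 ⊗ₜ a, hg a⟩
  exact ⟨IsBaseChange.of_equiv (LinearEquiv.ofBijective g.toLinearMap hbij) hg⟩

end Ring

variable {X X' Y Y' : Scheme.{u}} {f : X ⟶ Y} {f' : X' ⟶ Y'} {i : X ⟶ X'} {j : Y ⟶ Y'}

/-- the map of local rings along `j` at a point equal to `j y` -/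
noncomputable def phiAt (j : Y ⟶ Y') {y' : Y'} {y : Y} (h : y' = j.base y) :
    Y'.presheaf.stalk y' ⟶ Y.presheaf.stalk y :=
  (Y'.presheaf.stalkCongr (.of_eq h)).hom ≫ j.stalkMap y

theorem surjective_phiAt (j : Y ⟶ Y') [IsClosedImmersion j] {y' : Y'} {y : Y} (h : y' = j.base y) :
    Function.Surjective (phiAt j h).hom := by
  subst h
  have h1 := j.stalkMap_surjective y
  intro z
  obtain ⟨w, hw⟩ := h1 z
  obtain ⟨v, hv⟩ := (ConcreteCategory.bijective_of_isIso (Y'.presheaf.stalkCongr (.of_eq rfl)).hom).2 w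
  exact ⟨v, by rw [← hw, ← hv]; rfl⟩

theorem ker_phiAt (j : Y ⟶ Y') [IsClosedImmersion j] {y' : Y'} {y : Y} (h : y' = j.base y) :
    RingHom.ker (phiAt j h).hom = CartierBasic.stalkIdeal j.ker y' := by
  subst h
  have h1 : phiAt j rfl = j.stalkMap y := by
    simp [phiAt]
  rw [h1]
  exact CartierStalk.ker_stalkMap j y

instance isLocalHom_phiAt (j : Y ⟶ Y') {y' : Y'} {y : Y} (h : y' = j.base y) :
    IsLocalHom (phiAt j h).hom := by
  subst h
  have h1 : phiAt j rfl = j.stalkMap y := by
    simp [phiAt]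
  rw [h1]
  infer_instance

lemma w_base (sq : IsPullback i f f' j) (x : X) : f'.base (i.base x) = j.base (f.base x) := by
  have h := congr(($sq.w).base x)
  exact h

/-- `O_{Y', f' (i x)} → O_{Y, f x}` -/
noncomputable abbrev phi (sq : IsPullback i f f' j) (x : X) :
    Y'.presheaf.stalk (f'.base (i.base x)) ⟶ Y.presheaf.stalk (f.base x) :=
  phiAt j (w_base sq x)

theorem comm (sq : IsPullback i f f' j) (x : X) :
    f'.stalkMap (i.base x) ≫ i.stalkMap x = phi sq x ≫ f.stalkMap x := by
  rw [phi, phiAt, Category.assoc, ← Scheme.Hom.stalkMap_comp, ← Scheme.Hom.stalkMap_comp]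
  exact Scheme.Hom.stalkMap_congr_hom _ _ sq.w x

theorem isClosedImmersion_of_sq (sq : IsPullback i f f' j) [IsClosedImmersion j] : IsClosedImmersion i :=
  MorphismProperty.of_isPullback sq.flip inferInstance

theorem ker_of_sq (sq : IsPullback i f f' j) [IsClosedImmersion j] : i.ker = j.ker.comap f' := by
  rw [← Scheme.IdealSheafData.ker_fst_of_isClosedImmersion, ← sq.isoPullback_hom_fst,
    Scheme.Hom.ker_comp_of_isIso]

theorem ker_stalkMap_of_sq (sq : IsPullback i f f' j) [IsClosedImmersion j] (x : X) :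
    RingHom.ker (i.stalkMap x).hom = (RingHom.ker (phi sq x).hom).map (f'.stalkMap (i.base x)).hom := by
  have := isClosedImmersion_of_sq sq
  rw [ker_phiAt, CartierStalk.ker_stalkMap, ker_of_sq sq]
  exact CartierStalk.stalkIdeal_comap _ _ _

/-- `(Li^* K)_x` over the base. -/
theorem nonempty_iso (sq : IsPullback i f f' j) [IsClosedImmersion j] [Flat f'] [DCoh.HasLpull i] (x : X)
    [DRing.HasLBaseChange (phi sq x).hom] (K : DCoh.D X') :
    Nonempty ((stalkOverD f x).obj ((DCoh.Lpull i).obj K) ≅
      (DRing.LBaseChange (phi sq x).hom).obj ((stalkOverD f' (i.base x)).obj K)) := by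
  have := isClosedImmersion_of_sq sq
  letI : Algebra (Y'.presheaf.stalk (f'.base (i.base x))) (Y.presheaf.stalk (f.base x)) :=
    (phi sq x).hom.toAlgebra
  letI : Algebra (Y'.presheaf.stalk (f'.base (i.base x))) (X'.presheaf.stalk (i.base x)) :=
    (f'.stalkMap (i.base x)).hom.toAlgebra
  letI : Algebra (Y.presheaf.stalk (f.base x)) (X.presheaf.stalk x) := (f.stalkMap x).hom.toAlgebra
  letI : Algebra (X'.presheaf.stalk (i.base x)) (X.presheaf.stalk x) := (i.stalkMap x).hom.toAlgebra
  letI : Algebra (Y'.presheaf.stalk (f'.base (i.base x))) (X.presheaf.stalk x) :=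
    (f'.stalkMap (i.base x) ≫ i.stalkMap x).hom.toAlgebra
  haveI : IsScalarTower (Y'.presheaf.stalk (f'.base (i.base x))) (X'.presheaf.stalk (i.base x))
      (X.presheaf.stalk x) := IsScalarTower.of_algebraMap_eq fun _ => rfl
  haveI : IsScalarTower (Y'.presheaf.stalk (f'.base (i.base x))) (Y.presheaf.stalk (f.base x))
      (X.presheaf.stalk x) := IsScalarTower.of_algebraMap_eq fun r =>
    congr(($(comm sq x)).hom r)
  haveI : Algebra.IsPushout (Y'.presheaf.stalk (f'.base (i.base x))) (Y.presheaf.stalk (f.base x))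
      (X'.presheaf.stalk (i.base x)) (X.presheaf.stalk x) :=
    isPushout_of_surjective (surjective_phiAt j (w_base sq x)) (i.stalkMap_surjective x)
      (ker_stalkMap_of_sq sq x).le
  haveI : Module.Flat (Y'.presheaf.stalk (f'.base (i.base x))) (X'.presheaf.stalk (i.base x)) :=
    Flat.stalkMap f' (i.base x)
  haveI : DRing.HasLBaseChange (algebraMap (Y'.presheaf.stalk (f'.base (i.base x)))
    (Y.presheaf.stalk (f.base x))) := inferInstanceAs (DRing.HasLBaseChange (phi sq x).hom)
  haveI h1 : DRing.HasLBaseChange (i.stalkMap x).hom := LoccohB.LBC.hasLBaseChange _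
  haveI : DRing.HasLBaseChange (algebraMap (X'.presheaf.stalk (i.base x)) (X.presheaf.stalk x)) := h1
  obtain ⟨e⟩ := K238.StalkPull.nonempty_stalkD_lpull i x K
  exact ⟨(DRing.restrictD (f.stalkMap x).hom).mapIso e ≪≫
    (K366.RelPerf.restrictLbcIso (Y'.presheaf.stalk (f'.base (i.base x))) (X'.presheaf.stalk (i.base x))
      (Y.presheaf.stalk (f.base x)) (X.presheaf.stalk x) ((stalkD (i.base x)).obj K)).symm⟩

end K366.StalkBC
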