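import Groth.Agent.Dual2.K366.SrcFlat
import Groth.Agent.Dual3.K477.StalkNat
import Groth.Agent.CycA.ProdStalk
import Groth.Agent.S1004
import Groth.Agent.S0997
import Groth.Agent.S2066
import Groth.Agent.PerfA.PCohQCoh
import Groth.Agent.PerfC.PcLocal

/-!
# Stalkwise relative tor amplitude over an affine base

`f : X ⟶ Spec R`, `E` in `D(O_X)`.

* `torAmp_iff_of_localization`: tor amplitude over a localization;
* `torAmp_iff_glob`: the stalk at `x` has tor amplitude in `[a, b]` over `O_{Spec R, f x}` iff over `R`;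
* `nonempty_chart`: a pseudo-coherent `E` on an affine open immersion `j : Spec A ⟶ X` is `M~` with `M` pseudo-coherent;
* `torAmp_generize`: `f` flat, `E` pseudo-coherent: tor amplitude at `x₀` implies tor amplitude at generizations.
-/

set_option autoImplicit false
set_option linter.style.haveILetI false
universe u
open CategoryTheory CategoryTheory.Limits AlgebraicGeometry Opposite
attribute [local instance] HasDerivedCategory.standard

namespace K366.StalkGlob

open Groth.Agent K238.StalkD Groth.Agent.CycA.ProdStalk Groth.Agent.PerfC.TildeStalk Groth.Agent.K477.StalkNat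
open Groth.Agent.LoccohB.FlatLBC

section Ring

variable {R R₁ : Type u} [CommRing R] [CommRing R₁] (φ : R →+* R₁)

/-- Tor amplitude over a localization. -/
theorem torAmp_iff_of_localization (S : Submonoid R) (h : letI := φ.toAlgebra; IsLocalization S R₁)
    (L : Dual.D R₁) (a b : ℤ) :
    DRing.HasTorAmplitudeIn R₁ a b L ↔ DRing.HasTorAmplitudeIn R a b ((DRing.restrictD φ).obj L) := by
  letI := φ.toAlgebra
  haveI : IsLocalization S R₁ := h
  haveI : Module.Flat R R₁ := IsLocalization.flat R₁ S
  constructor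
  · exact fun H => Flat2C.TorAmpRestr.hasTorAmplitudeIn_restrict φ
      (fun M hM => RelPerf.flat_restrict (R := R) (A := R₁) M hM) a b _ H
  · intro H
    haveI : DRing.HasLBaseChange φ := LoccohB.LBC.hasLBaseChange _
    haveI : DRing.HasLBaseChange (algebraMap R R₁) := inferInstanceAs (DRing.HasLBaseChange φ)
    haveI : DRing.HasLBaseChange (algebraMap R₁ R₁) := LoccohB.LBC.hasLBaseChange _
    haveI : IsLocalization (Algebra.algebraMapSubmonoid R₁ S) R₁ := by
      refine IsLocalization.of_le_isUnit ?_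
      rintro _ ⟨s, hs, rfl⟩
      exact IsLocalization.map_units R₁ (⟨s, hs⟩ : S)
    haveI : Algebra.IsPushout R R₁ R₁ R₁ := Algebra.isPushout_of_isLocalization S _ _ _
    have h1 := K227.FlatBC.torAmp_lbc φ _ a b H
    exact torAmp_of_iso (RelPerf.restrictLbcIso R R₁ R₁ R₁ L ≪≫
      (LoccohB.LBC.restrictDId (algebraMap R₁ R₁) rfl).app _ ≪≫
      (LoccohB.LBC.lbcId (algebraMap R₁ R₁) rfl).app L) h1

end Ring

section Stalk

variable {X U : Scheme.{u}} {R : CommRingCat.{u}}

theorem toStalk_id (s : Spec R) : toStalk (𝟙 (Spec R)) s = CommRingCat.ofHom (alpha s) := by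
  apply Spec.map_injective
  rw [SpecMap_toStalk, Category.comp_id, alpha_eq, Spec.fromSpecStalk_eq]
  rfl

theorem toStalk_eq (f : X ⟶ Spec R) (x : X) :
    (toStalk f x).hom = (f.stalkMap x).hom.comp (alpha (f.base x)) := by
  have h := toStalk_stalkMap f (𝟙 (Spec R)) x
  rw [toStalk_congr (Category.comp_id f)] at h
  rw [← h]
  erw [toStalk_id]
  rfl

/-- Over an affine base the amplitude of the stalk may be computed over the ring. -/
theorem torAmp_iff_glob (f : X ⟶ Spec R) (x : X) (E : DCoh.D X) (a b : ℤ) :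
    DRing.HasTorAmplitudeIn ((Spec R).presheaf.stalk (f.base x)) a b ((stalkOverD f x).obj E) ↔
      DRing.HasTorAmplitudeIn R a b ((DRing.restrictD (toStalk f x).hom).obj ((stalkD x).obj E)) := by
  rw [torAmp_iff_of_localization (alpha (f.base x)) _ (isLocalization_alpha (f.base x))]
  exact torAmp_iff_of_iso ((LoccohB.LBC.restrictDComp (alpha (f.base x)) (f.stalkMap x).hom
    (toStalk f x).hom (toStalk_eq f x)).app ((stalkD x).obj E))

/-- Restriction to an open subscheme. -/
theorem torAmp_iff_restrict (f : X ⟶ Spec R) (j : U ⟶ X) [IsOpenImmersion j] (y : U) (E : DCoh.D X)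
    (a b : ℤ) :
    DRing.HasTorAmplitudeIn R a b ((DRing.restrictD (toStalk f (j.base y)).hom).obj ((stalkD (j.base y)).obj E)) ↔
      DRing.HasTorAmplitudeIn R a b
        ((DRing.restrictD (toStalk (j ≫ f) y).hom).obj ((stalkD y).obj ((DCoh.restrictD j).obj E))) := by
  have h : (toStalk (j ≫ f) y).hom = (j.stalkMap y).hom.comp (toStalk f (j.base y)).hom := by
    rw [← toStalk_stalkMap j f y]
    rfl
  exact torAmp_iff_of_iso ((DRing.restrictD (toStalk f (j.base y)).hom).mapIso
    ((stalkDRestrict j y).symm.app E) ≪≫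
    (LoccohB.LBC.restrictDComp (toStalk f (j.base y)).hom (j.stalkMap y).hom
      (toStalk (j ≫ f) y).hom h).app _)

end Stalk

section Tilde

variable {A : CommRingCat.{u}} [PreservesFiniteLimits (tilde.functor A)]

/-- the stalk of `M~` -/
theorem nonempty_stalkD_tilde (p : Spec A) [DRing.HasLBaseChange (alpha p)] (M : Dual.D A) :
    Nonempty ((stalkD p).obj ((DCoh.tildeD A).obj M) ≅ (DRing.LBaseChange (alpha p)).obj M) :=
  ⟨(stalkDTilde p).app M ≪≫ ((LBaseChangeIso (alpha p) (flat_alpha p)).symm).app M⟩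

theorem isPseudoCoherent'_stalk (p : Spec A) {M : Dual.D A} (hM : DRing.IsPseudoCoherent' A M) :
    DRing.IsPseudoCoherent' ((Spec A).presheaf.stalk p) ((stalkD p).obj ((DCoh.tildeD A).obj M)) := by
  haveI : DRing.HasLBaseChange (alpha p) := LoccohB.LBC.hasLBaseChange _
  obtain ⟨e⟩ := nonempty_stalkD_tilde p M
  exact LoccohB.PerfTri.isPseudoCoherent'_of_iso e.symm (RelPerf.isPseudoCoherent'_lbc (alpha p) hM)

omit [PreservesFiniteLimits (tilde.functor A)] in
theorem alpha_specializes {p q : Spec A} (h : p ⤳ q) :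
    alpha p = ((Spec A).presheaf.stalkSpecializes h).hom.comp (alpha q) := by
  rw [alpha, alpha, ← CommRingCat.hom_comp, Category.assoc]
  congr 2
  exact ((Spec A).presheaf.germ_stalkSpecializes (U := ⊤) trivial h).symm

omit [PreservesFiniteLimits (tilde.functor A)] in
theorem flat_specializes {p q : Spec A} (h : p ⤳ q) :
    ((Spec A).presheaf.stalkSpecializes h).hom.Flat := by
  letI := (alpha q).toAlgebra
  letI := (alpha p).toAlgebra
  letI := ((Spec A).presheaf.stalkSpecializes h).hom.toAlgebra
  haveI : IsScalarTower A ((Spec A).presheaf.stalk q) ((Spec A).presheaf.stalk p) :=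
    IsScalarTower.of_algebraMap_eq fun r => congr($(alpha_specializes h) r)
  haveI : IsLocalization (px q).primeCompl ((Spec A).presheaf.stalk q) := isLocalization_alpha q
  haveI : Module.Flat A ((Spec A).presheaf.stalk p) := flat_alpha p
  have h1 : Module.Flat ((Spec A).presheaf.stalk q) ((Spec A).presheaf.stalk p) := by
    rw [Module.flat_iff_of_isLocalization ((Spec A).presheaf.stalk q) (px q).primeCompl]
    infer_instance
  exact h1

/-- generization of the stalk of `M~` -/
theorem nonempty_specializes {p q : Spec A} (h : p ⤳ q)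
    [DRing.HasLBaseChange ((Spec A).presheaf.stalkSpecializes h).hom] (M : Dual.D A) :
    Nonempty ((DRing.LBaseChange ((Spec A).presheaf.stalkSpecializes h).hom).obj
      ((stalkD q).obj ((DCoh.tildeD A).obj M)) ≅ (stalkD p).obj ((DCoh.tildeD A).obj M)) := by
  haveI : DRing.HasLBaseChange (alpha p) := LoccohB.LBC.hasLBaseChange _
  haveI : DRing.HasLBaseChange (alpha q) := LoccohB.LBC.hasLBaseChange _
  obtain ⟨e1⟩ := nonempty_stalkD_tilde p M
  obtain ⟨e2⟩ := nonempty_stalkD_tilde q M
  exact ⟨(DRing.LBaseChange ((Spec A).presheaf.stalkSpecializes h).hom).mapIso e2 ≪≫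
    (LoccohB.LBC.lbcComp (alpha q) ((Spec A).presheaf.stalkSpecializes h).hom (alpha p)
      (alpha_specializes h)).app M ≪≫ e1.symm⟩

variable {R : CommRingCat.{u}}

theorem flat_toStalk {X : Scheme.{u}} (f : X ⟶ Spec R) [Flat f] (x : X) : (toStalk f x).hom.Flat := by
  rw [toStalk_eq]
  exact RingHom.Flat.comp (flat_alpha _) (Flat.stalkMap f x)

theorem torAmp_generize_tilde (g : Spec A ⟶ Spec R) [Flat g] {M : Dual.D A} (hM : DRing.IsPseudoCoherent' A M)
    {p q : Spec A} (h : p ⤳ q) {a b : ℤ}
    (H : DRing.HasTorAmplitudeIn R a b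
      ((DRing.restrictD (toStalk g q).hom).obj ((stalkD q).obj ((DCoh.tildeD A).obj M)))) :
    DRing.HasTorAmplitudeIn R a b
      ((DRing.restrictD (toStalk g p).hom).obj ((stalkD p).obj ((DCoh.tildeD A).obj M))) := by
  haveI : DRing.HasLBaseChange ((Spec A).presheaf.stalkSpecializes h).hom := LoccohB.LBC.hasLBaseChange _
  have h1 := SrcFlat.torAmp_source (toStalk g q).hom ((Spec A).presheaf.stalkSpecializes h).hom
    (flat_toStalk g q) (flat_specializes h) (isPseudoCoherent'_stalk q hM) H
  obtain ⟨e⟩ := nonempty_specializes h M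
  have h2 : (toStalk g p).hom = ((Spec A).presheaf.stalkSpecializes h).hom.comp (toStalk g q).hom := by
    rw [← toStalk_stalkSpecializes g h]
    rfl
  rw [h2]
  exact torAmp_of_iso ((DRing.restrictD _).mapIso e) h1

end Tilde

section Chart

variable {X : Scheme.{u}}

/-- A pseudo-coherent object on an affine chart. -/
theorem nonempty_chart {A : CommRingCat.{u}} [PreservesFiniteLimits (tilde.functor A)] (j : Spec A ⟶ X)
    [IsOpenImmersion j] (E : DCoh.D X) (hE : ∀ m : ℤ, DCoh.IsPseudoCoherentD m E) :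
    ∃ M : Dual.D A, DRing.IsPseudoCoherent' A M ∧
      Nonempty ((DCoh.tildeD A).obj M ≅ (DCoh.restrictD j).obj E) := by
  have h1 : ∀ m : ℤ, DCoh.IsPseudoCoherentD m ((DCoh.restrictD j).obj E) := fun m =>
    PerfC.PcLocal.pc_restrict j (hE m)
  obtain ⟨M, ⟨e⟩⟩ := ((S0997.result A).2.2 _).1 (PerfA.PCohQCoh.isQCohD_of_isPseudoCoherentD h1)
  refine ⟨M, (S2066.result M).1.1 fun m => ?_, ⟨e⟩⟩
  exact (S1004.result A M m).1 (PerfC.PcLocal.pc_of_iso e.symm (h1 m))

end Chart

end K366.StalkGlob
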