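import Groth.Agent.Dual2.K366.RelPerf
import Groth.Agent.DRing.K227.TorMore
import Groth.Agent.DRing.K229.PerfRetract
import Groth.Agent.DRing.K229.PerfInd

/-!
# The triangulated category of relatively perfect objects

* `relPerf R A` : the `R`-perfect objects of `D(A)`; a thick triangulated subcategory.
* `isRelPerfect_lten` : `M ⊗^L E` is `R`-perfect for `M` `R`-perfect and `E` perfect.
-/

set_option autoImplicit false
universe u

open CategoryTheory CategoryTheory.Limits CategoryTheory.Pretriangulated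

attribute [local instance] HasDerivedCategory.standard

namespace K366.Thick

open DRing Groth.Agent RelPerf

variable {A : Type u} [CommRing A]

theorem finTor_obj₂ {T : Triangle (Dual.D A)} (hT : T ∈ distTriang (Dual.D A))
    (h1 : HasFiniteTorDimCx A T.obj₁) (h3 : HasFiniteTorDimCx A T.obj₃) : HasFiniteTorDimCx A T.obj₂ := by
  obtain ⟨a, b, h1⟩ := h1
  obtain ⟨a', b', h3⟩ := h3
  exact ⟨min a a', max b b', K227.TorMore.torAmp_obj₂ hT
    (K227.PerfFlat.torAmp_mono (min_le_left _ _) (le_max_left _ _) h1)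
    (K227.PerfFlat.torAmp_mono (min_le_right _ _) (le_max_right _ _) h3)⟩

/-- relatively perfect objects -/
def relPerf (R A : Type u) [CommRing R] [CommRing A] [Algebra R A] : ObjectProperty (Dual.D A) :=
  fun K => Dual2.IsRelPerfect R A K

variable {R : Type u} [CommRing R] [Algebra R A]

instance : (relPerf R A).IsClosedUnderIsomorphisms where
  of_iso e h := isRelPerfect_of_iso e h

theorem isRelPerfect_shift {K : Dual.D A} (h : Dual2.IsRelPerfect R A K) (n : ℤ) :
    Dual2.IsRelPerfect R A (K⟦n⟧) := by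
  obtain ⟨h1, a, b, h2⟩ := h
  exact ⟨LoccohB.PerfTri.isPseudoCoherent'_shift n h1, a - n, b - n, K227.PerfFlat.torAmp_of_iso
    (((restrictD (algebraMap R A)).commShiftIso n).symm.app K) (K227.PerfFlat.torAmp_shift n h2)⟩

theorem isRelPerfect_obj₂ {T : Triangle (Dual.D A)} (hT : T ∈ distTriang (Dual.D A))
    (h1 : Dual2.IsRelPerfect R A T.obj₁) (h3 : Dual2.IsRelPerfect R A T.obj₃) :
    Dual2.IsRelPerfect R A T.obj₂ :=
  ⟨LoccohB.PerfTri.isPseudoCoherent'_obj₂ hT h1.1 h3.1,
    finTor_obj₂ ((restrictD (algebraMap R A)).map_distinguished T hT) h1.2 h3.2⟩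

theorem isRelPerfect_of_retract {K L : Dual.D A} (s : K ⟶ L) (r : L ⟶ K) (h : s ≫ r = 𝟙 K)
    (hL : Dual2.IsRelPerfect R A L) : Dual2.IsRelPerfect R A K := by
  obtain ⟨h1, a, b, h2⟩ := hL
  exact ⟨K229.PerfRetract.isPseudoCoherent'_of_retract s r h h1, a, b,
    K227.TorMore.torAmp_of_retract ((restrictD (algebraMap R A)).map s) ((restrictD (algebraMap R A)).map r)
      (by rw [← Functor.map_comp, h, CategoryTheory.Functor.map_id]) h2⟩

instance [Module.Flat R A] : (relPerf R A).IsTriangulated where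
  exists_zero := by
    obtain ⟨Z, hZ, h⟩ := (K229.PerfInd.perf A).exists_prop_of_containsZero
    exact ⟨Z, hZ, isRelPerfect_of_isPerfect h⟩
  isStableUnderShiftBy n := ⟨fun K hK => isRelPerfect_shift hK n⟩
  ext₂' T hT h₁ h₃ := ObjectProperty.le_isoClosure _ _ (isRelPerfect_obj₂ hT h₁ h₃)

instance : (relPerf R A).IsStableUnderRetracts :=
  ⟨fun r h => isRelPerfect_of_retract r.i r.r r.retract h⟩

/-- tensor product with a perfect object -/
theorem isRelPerfect_lten [Module.Flat R A] (E : Cx A) [HasLTensorCx A E] {a b : ℤ}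
    (hE : VanishesOutside E a b) (hE' : TermwiseFiniteProjective E) (M : Dual.D A)
    (hM : Dual2.IsRelPerfect R A M) : Dual2.IsRelPerfect R A ((LTensorCx A E).obj M) := by
  obtain ⟨P, hP, ⟨e⟩⟩ := LoccohB.LTen.exists_kproj M
  have hPf := K227.KTen.kfl_of_isKProjective P
  have := LoccohB.LTen.hasLTensorCx P
  have hEf : Dcoh.KFlatAbs.KFl (PerfB.RingKFlat.TR A) E := K227.KTen.kfl_of_vanishesOutside E hE fun i => by
    have := (hE' i).2
    infer_instance
  obtain ⟨e1⟩ := K227.KTen.nonempty_lten_kfl E P hPf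
  obtain ⟨e2⟩ := K227.KTen.nonempty_lten_kfl P E hEf
  refine isRelPerfect_of_iso (e2 ≪≫ DerivedCategory.Q.mapIso (LoccohB.LTen.swapIso E P) ≪≫ e1.symm ≪≫
    (LTensorCx A E).mapIso e) ?_
  obtain ⟨_, _⟩ := K232.TriTen.isTriang_LTensorCx P
  let S : ObjectProperty (Dual.D A) := (relPerf R A).inverseImage (LTensorCx A P)
  have h1 : IsPerfect A (toD E) := ⟨E, a, b, hE, hE', ⟨Iso.refl _⟩⟩
  refine K229.PerfInd.prop_of_isPerfect S ?_ ?_ ?_ ?_ (toD E) h1
  · exact isRelPerfect_of_iso (LoccohB.LTenUnit.ltenSg P 0).symm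
      (isRelPerfect_shift (isRelPerfect_of_iso e.symm hM) (-0))
  · intro K n hK
    exact isRelPerfect_of_iso (((LTensorCx A P).commShiftIso n).symm.app K) (isRelPerfect_shift hK n)
  · intro T hT h1 h3
    exact isRelPerfect_obj₂ ((LTensorCx A P).map_distinguished T hT) h1 h3
  · intro X Y _ h
    exact isRelPerfect_of_retract ((LTensorCx A P).map (biprod.inl : X ⟶ X ⊞ Y))
      ((LTensorCx A P).map (biprod.fst : X ⊞ Y ⟶ X))
      (by rw [← Functor.map_comp, biprod.inl_fst, CategoryTheory.Functor.map_id]) h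

end K366.Thick
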