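import Groth.Agent.Dual2.K366.StalkBC
import Groth.Agent.DRing.K228.TorQuot2
import Groth.Prelude.Def_MoreMor

/-!
# Relative tor amplitude and thickenings of the base

A cartesian square `i : X ⟶ X'`, `f : X ⟶ Y`, `f' : X' ⟶ Y'`, `j : Y ⟶ Y'` with `f'` flat and `j` a finite order
thickening.

* `isFiniteOrderThickening_of_sq`: `i` is a finite order thickening;
* `locFiniteTorAmplitudeD_of_thickening`: if `Li^* K` locally has finite tor amplitude over `Y` then `K` locally has
  finite tor amplitude over `Y'`.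
-/

set_option autoImplicit false
set_option linter.style.haveILetI false
universe u
open CategoryTheory CategoryTheory.Limits AlgebraicGeometry Opposite TopologicalSpace
attribute [local instance] HasDerivedCategory.standard

namespace K366.ThickBase

open Groth.Agent Groth.Agent.Divis K238.StalkD K366.StalkBC

variable {X X' Y Y' : Scheme.{u}} {f : X ⟶ Y} {f' : X' ⟶ Y'} {i : X ⟶ X'} {j : Y ⟶ Y'}

theorem isNilpotent_stalkIdeal {I : Y.IdealSheafData} (h : IsNilpotent I) (y : Y) :
    IsNilpotent (CartierBasic.stalkIdeal I y) := by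
  obtain ⟨n, hn⟩ := h
  obtain ⟨U, hU⟩ := CartierBasic.exists_affine y
  refine ⟨n, ?_⟩
  rw [CartierBasic.stalkIdeal_eq I U hU, ← Ideal.map_pow]
  have h1 : (I.ideal U) ^ n = ⊥ := by
    have h2 : (I ^ n).ideal U = (⊥ : Y.IdealSheafData).ideal U := by rw [hn]; rfl
    rw [Scheme.IdealSheafData.ideal_pow] at h2
    exact h2
  rw [h1, Ideal.map_bot]
  rfl

/-- Finite order thickenings are stable under base change. -/
theorem isFiniteOrderThickening_of_sq (sq : IsPullback i f f' j) (hj : MoreMor.IsFiniteOrderThickening j) :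
    MoreMor.IsFiniteOrderThickening i := by
  obtain ⟨⟨h1, h2⟩, n, hn⟩ := hj
  refine ⟨⟨isClosedImmersion_of_sq sq, MorphismProperty.of_isPullback sq.flip h2⟩, n, ?_⟩
  rw [ker_of_sq sq, ← IdealComap.comap_pow, hn]
  exact Scheme.IdealSheafData.comap_bot _

theorem torAmp_stalk (sq : IsPullback i f f' j) [Flat f'] (hj : MoreMor.IsFiniteOrderThickening j)
    [DCoh.HasLpull i] (K : DCoh.D X') (x : X) {a b : ℤ}
    (h : DRing.HasTorAmplitudeIn (Y.presheaf.stalk (f.base x)) a b
      ((stalkOverD f x).obj ((DCoh.Lpull i).obj K))) :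
    DRing.HasTorAmplitudeIn (Y'.presheaf.stalk (f'.base (i.base x))) a b
      ((stalkOverD f' (i.base x)).obj K) := by
  haveI : IsClosedImmersion j := hj.1.1
  haveI : DRing.HasLBaseChange (phi sq x).hom := LoccohB.LBC.hasLBaseChange _
  obtain ⟨e⟩ := nonempty_iso sq x K
  refine K228.TorQuot.torAmp_of_nilpotent (phi sq x).hom (surjective_phiAt j (w_base sq x)) ?_
    (torAmp_of_iso e h)
  rw [ker_phiAt]
  exact isNilpotent_stalkIdeal hj.2 _

/-- Relative tor amplitude and thickenings of the base. -/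
theorem locFiniteTorAmplitudeD_of_thickening (sq : IsPullback i f f' j) [Flat f']
    (hj : MoreMor.IsFiniteOrderThickening j) [DCoh.HasLpull i] (K : DCoh.D X')
    (F : CochainComplex X.Modules ℤ) (e : DCoh.toD X F ≅ (DCoh.Lpull i).obj K)
    (h : DerSch.LocFiniteTorAmplitude f F) : DerSch.LocFiniteTorAmplitudeD f' K := by
  rw [locFiniteTorAmplitude_iff] at h
  rw [locFiniteTorAmplitudeD_iff]
  have hi := isFiniteOrderThickening_of_sq sq hj
  haveI : IsClosedImmersion i := hi.1.1
  haveI : Surjective i := hi.1.2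
  intro x'
  obtain ⟨x, rfl⟩ := i.surjective x'
  obtain ⟨V, a, b, hx, hV⟩ := h x
  obtain ⟨V', hV', hVV⟩ := (i.isClosedEmbedding.isInducing.isOpen_iff).1 V.2
  refine ⟨⟨V', hV'⟩, a, b, ?_, fun x₁ hx₁ => ?_⟩
  · have : x ∈ (i : X → X') ⁻¹' V' := by rw [hVV]; exact hx
    exact this
  · obtain ⟨x₂, rfl⟩ := i.surjective x₁
    have hx₂ : x₂ ∈ V := by
      have : x₂ ∈ (i : X → X') ⁻¹' V' := hx₁
      rw [hVV] at this
      exact this
    exact torAmp_stalk sq hj K x₂ (torAmp_of_iso ((stalkOverD f x₂).mapIso e) (hV x₂ hx₂))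

end K366.ThickBase
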